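import Groth.Agent.KDim.Minor
import Mathlib.RingTheory.TensorProduct.Free
import Mathlib.RingTheory.LocalRing.ResidueField.Ideal
import Mathlib.FieldTheory.IsAlgClosed.AlgebraicClosure
import Mathlib.RingTheory.Ideal.GoingUp
import Mathlib.RingTheory.Spectrum.Prime.Topology
import Mathlib.RingTheory.IntegralClosure.IsIntegralClosure.Basic

/-!
# Charts: matrices over a ring, specialized at geometric points of a finite algebra
-/

set_option autoImplicit false
set_option linter.style.haveILetI false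
set_option linter.unusedSectionVars false

universe u

open scoped TensorProduct
open Module Submodule

noncomputable section

attribute [local instance 10000] Ring.toIntAlgebra

namespace Groth.Agent.KDim

section Geom

variable {R : Type u} [CommRing R]

/-- The geometric point over a prime. -/
abbrev Lp (p : PrimeSpectrum R) : Type u := AlgebraicClosure p.asIdeal.ResidueField

/-- The map to the geometric point. -/
def phi (p : PrimeSpectrum R) : R →+* Lp p :=
  (algebraMap p.asIdeal.ResidueField (Lp p)).comp (algebraMap R p.asIdeal.ResidueField)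

theorem phi_eq_zero (p : PrimeSpectrum R) (a : R) : phi p a = 0 ↔ a ∈ p.asIdeal := by
  rw [phi, RingHom.comp_apply, map_eq_zero, ← RingHom.mem_ker, Ideal.ker_algebraMap_residueField]

variable {B : Type} [CommRing B]

/-- The map of `R ⊗ B` to the geometric point given by a map of `B`. -/
def chi (p : PrimeSpectrum R) (σ : B →+* Lp p) : R ⊗[ℤ] B →+* Lp p :=
  (Algebra.TensorProduct.lift (phi p).toIntAlgHom σ.toIntAlgHom fun _ _ => Commute.all _ _).toRingHom

@[simp] theorem chi_tmul (p : PrimeSpectrum R) (σ : B →+* Lp p) (a : R) (x : B) :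
    chi p σ (a ⊗ₜ x) = phi p a * σ x := Algebra.TensorProduct.lift_tmul _ _ _ a x

theorem chi_algebraMap (p : PrimeSpectrum R) (σ : B →+* Lp p) (a : R) :
    chi p σ (algebraMap R (R ⊗[ℤ] B) a) = phi p a := by
  rw [Algebra.TensorProduct.algebraMap_apply, chi_tmul, map_one, mul_one, Algebra.algebraMap_self_apply]

variable {Q : ℕ} (bB : Basis (Fin Q) ℤ B)

include bB in
theorem finite_homs (L : Type u) [Field L] : Finite (B →+* L) := by
  classical
  haveI := Module.Finite.of_basis bB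
  haveI : Algebra.IsIntegral ℤ B := Algebra.IsIntegral.of_finite ℤ B
  choose f hf hf0 using fun i => Algebra.IsIntegral.isIntegral (R := ℤ) (bB i)
  let R' : Fin Q → Finset L := fun i => ((f i).map (Int.castRingHom L)).roots.toFinset
  have hroot : ∀ (σ : B →+* L) (i), σ (bB i) ∈ R' i := fun σ i => by
    rw [Multiset.mem_toFinset, Polynomial.mem_roots ((hf i).map _).ne_zero, Polynomial.IsRoot, Polynomial.eval_map]
    rw [← RingHom.ext_int (σ.comp (algebraMap ℤ B)) (Int.castRingHom L), ← Polynomial.hom_eval₂, hf0 i, map_zero]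
  refine Finite.of_injective (fun σ => fun i => (⟨σ (bB i), hroot σ i⟩ : R' i)) fun σ τ h => ?_
  have : σ.toAddMonoidHom.toIntLinearMap = τ.toAddMonoidHom.toIntLinearMap :=
    bB.ext fun i => congrArg Subtype.val (congrFun h i)
  exact RingHom.ext fun x => LinearMap.congr_fun this x

include bB in
theorem isIntegral_base : Algebra.IsIntegral R (R ⊗[ℤ] B) :=
  haveI := Module.Finite.of_basis (Algebra.TensorProduct.basis R bB)
  Algebra.IsIntegral.of_finite R _

include bB in
/-- An ideal with no zero over `p` contains a scalar outside `p`. -/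
theorem exists_scalar (p : PrimeSpectrum R) (I : Ideal (R ⊗[ℤ] B))
    (h : ∀ σ : B →+* Lp p, ∃ x ∈ I, chi p σ x ≠ 0) : ∃ t, t ∉ p.asIdeal ∧ algebraMap R (R ⊗[ℤ] B) t ∈ I := by
  by_contra hcon
  simp only [not_exists, not_and] at hcon
  haveI := isIntegral_base (R := R) bB
  haveI := p.isPrime
  obtain ⟨Q, hIQ, hQ, hQp⟩ := Ideal.exists_ideal_over_prime_of_isIntegral p.asIdeal I
    (fun t ht => by_contra fun hn => hcon t hn ht)
  haveI : Q.IsPrime := hQ
  haveI : Q.LiesOver p.asIdeal := ⟨hQp.symm⟩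
  letI : Algebra (R ⧸ p.asIdeal) (Lp p) :=
    ((algebraMap p.asIdeal.ResidueField (Lp p)).comp (algebraMap (R ⧸ p.asIdeal) p.asIdeal.ResidueField)).toAlgebra
  haveI : Module.IsTorsionFree (R ⧸ p.asIdeal) (Lp p) := by
    refine Module.isTorsionFree_iff_algebraMap_injective.2 ?_
    exact (algebraMap p.asIdeal.ResidueField (Lp p)).injective.comp (IsFractionRing.injective _ _)
  haveI : Module.IsTorsionFree (R ⧸ p.asIdeal) ((R ⊗[ℤ] B) ⧸ Q) := by
    refine Module.isTorsionFree_iff_algebraMap_injective.2 ?_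
    rw [RingHom.injective_iff_ker_eq_bot, eq_bot_iff]
    intro x hx
    obtain ⟨a, rfl⟩ := Ideal.Quotient.mk_surjective x
    rw [RingHom.mem_ker, Ideal.Quotient.algebraMap_mk_of_liesOver, Ideal.Quotient.eq_zero_iff_mem] at hx
    rw [Submodule.mem_bot, Ideal.Quotient.eq_zero_iff_mem, ← hQp]
    exact hx
  haveI : Algebra.IsIntegral (R ⧸ p.asIdeal) ((R ⊗[ℤ] B) ⧸ Q) := by
    refine ⟨fun x => ?_⟩
    obtain ⟨y, rfl⟩ := Ideal.Quotient.mk_surjective x
    exact ((Algebra.IsIntegral.isIntegral (R := R) y).map (Ideal.Quotient.mkₐ R Q)).tower_top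
  let ψ : (R ⊗[ℤ] B) ⧸ Q →ₐ[R ⧸ p.asIdeal] Lp p := IsAlgClosed.lift
  let ψ' : R ⊗[ℤ] B →+* Lp p := ψ.toRingHom.comp (Ideal.Quotient.mk Q)
  let σ : B →+* Lp p := ψ'.comp Algebra.TensorProduct.includeRight.toRingHom
  have hψ : ∀ x, chi p σ x = ψ' x := fun x => by
    induction x using TensorProduct.induction_on with
    | zero => rw [map_zero, map_zero]
    | add a b ha hb => rw [map_add, map_add, ha, hb]
    | tmul a b =>
      rw [chi_tmul, show (a ⊗ₜ[ℤ] b : R ⊗[ℤ] B) = algebraMap R (R ⊗[ℤ] B) a * ((1 : R) ⊗ₜ[ℤ] b) by simp, map_mul]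
      refine congrArg (fun z => z * σ b) ?_
      show _ = ψ (Ideal.Quotient.mk Q (algebraMap R _ a))
      rw [← Ideal.Quotient.algebraMap_mk_of_liesOver Q p.asIdeal a, AlgHom.commutes]
      rfl
  obtain ⟨x, hx, hne⟩ := h σ
  apply hne
  rw [hψ]
  show ψ (Ideal.Quotient.mk Q x) = 0
  rw [Ideal.Quotient.eq_zero_iff_mem.2 (hIQ hx), map_zero]

/-- The scalar of `exists_scalar` avoids nearby points too. -/
theorem exists_mem_ne_zero {p' : PrimeSpectrum R} {t : R} (ht : t ∉ p'.asIdeal) {I : Ideal (R ⊗[ℤ] B)}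
    (hI : algebraMap R (R ⊗[ℤ] B) t ∈ I) (σ : B →+* Lp p') {S : Set (R ⊗[ℤ] B)} (hS : I ≤ Ideal.span S) :
    ∃ x ∈ S, chi p' σ x ≠ 0 := by
  by_contra hcon
  simp only [not_exists, not_and, not_not] at hcon
  have : Ideal.span S ≤ RingHom.ker (chi p' σ) := Ideal.span_le.2 fun x hx => hcon x hx
  refine ht ((phi_eq_zero p' t).1 ?_)
  rw [← chi_algebraMap p' σ]
  exact this (hS hI)

end Geom

/-- A chart: a matrix over a ring, with a filtration of the spectrum. -/
structure Chart (e n₀ : ℕ) : Type (u + 1) where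
  R : Type u
  [ring : CommRing R]
  T : Matrix (Fin e) (Fin n₀) R
  D : ℕ → Set (PrimeSpectrum R)
  closed : IsClosed (D 0)
  anti : ∀ k, D (k + 1) ⊆ D k
  fin : ∀ k F, IsClosed F → F ⊆ D k → (F \ D (k + 1)).Finite
  span_top : ∀ p, Submodule.span (Lp p) (Set.range fun l a => phi p (T a l)) = ⊤

attribute [instance] Chart.ring

namespace Chart

variable {e n₀ : ℕ} (c : Chart.{u} e n₀)

theorem anti_le {k l : ℕ} (h : k ≤ l) : c.D l ⊆ c.D k := by
  induction h with
  | refl => exact subset_rfl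
  | step _ ih => exact (c.anti _).trans ih

variable {B : Type} [CommRing B] {n : ℕ} (M : Matrix (Fin n₀) (Fin n) B)

/-- The combined sections. -/
def tp : Matrix (Fin e) (Fin n) (c.R ⊗[ℤ] B) :=
  c.T.map (fun a => algebraMap c.R (c.R ⊗[ℤ] B) a) * M.map (fun x => (1 : c.R) ⊗ₜ[ℤ] x)

theorem chi_tp (p : PrimeSpectrum c.R) (σ : B →+* Lp p) (a : Fin e) (i : Fin n) :
    chi p σ (c.tp M a i) = ∑ l, phi p (c.T a l) * σ (M l i) := by
  rw [tp, Matrix.mul_apply, map_sum]
  refine Finset.sum_congr rfl fun l _ => ?_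
  rw [map_mul, Matrix.map_apply, Matrix.map_apply, chi_algebraMap, chi_tmul, map_one, one_mul]

/-- The combined vectors at a geometric point. -/
def vec (p : PrimeSpectrum c.R) (σ : B →+* Lp p) : Fin n → Fin e → Lp p := fun i a => chi p σ (c.tp M a i)

/-- The rank at a geometric point. -/
def rnk (p : PrimeSpectrum c.R) (σ : B →+* Lp p) : ℕ := finrank (Lp p) (span (Lp p) (Set.range (c.vec M p σ)))

variable {Q : ℕ} (bB : Basis (Fin Q) ℤ B)

include bB in
theorem isClosed_rnk_le (ρ : ℕ) : IsClosed {p | ∃ σ, c.rnk M p σ ≤ ρ} := by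
  rw [← isOpen_compl_iff, isOpen_iff_forall_mem_open]
  intro p hp
  let minor : (Fin (ρ + 1) → Fin n) × (Fin (ρ + 1) → Fin e) → c.R ⊗[ℤ] B := fun x =>
    ((c.tp M).submatrix x.2 x.1).det
  have hdet : ∀ q (σ : B →+* Lp q) x, chi q σ (minor x) =
      (Matrix.of fun a i => c.vec M q σ (x.1 i) (x.2 a)).det := fun q σ x => by
    rw [RingHom.map_det]; rfl
  obtain ⟨t, ht, htI⟩ := exists_scalar bB p (Ideal.span (Set.range minor)) fun σ => by
    have hgt : ρ + 1 ≤ c.rnk M p σ := Nat.lt_of_not_le fun h => hp ⟨σ, h⟩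
    obtain ⟨f, g, hfg⟩ := exists_minor _ hgt
    exact ⟨minor (f, g), Ideal.subset_span ⟨_, rfl⟩, by rwa [hdet]⟩
  refine ⟨PrimeSpectrum.basicOpen t, fun q hq => ?_, (PrimeSpectrum.basicOpen t).isOpen, ht⟩
  rintro ⟨σ, hσ⟩
  obtain ⟨_, ⟨x, rfl⟩, hne⟩ := exists_mem_ne_zero hq htI σ le_rfl
  rw [hdet] at hne
  have h2 := le_finrank_of_minor _ _ _ hne
  exact absurd (h2.trans hσ) (by omega)

end Chart

end Groth.Agent.KDim
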