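import Groth.Agent.KDim.Wedge
import Groth.Agent.Lambda.LamAlt
import Groth.Agent.Lambda.Pos
import Groth.Prelude.Def_KRR

/-!
# The class of the complex
-/

set_option autoImplicit false
set_option linter.style.haveILetI false
set_option linter.unusedSectionVars false
set_option backward.isDefEq.respectTransparency false
set_option backward.isDefEq.respectTransparency.types false
set_option maxHeartbeats 1000000

universe v u

open CategoryTheory CategoryTheory.Limits AlgebraicGeometry TopologicalSpace Opposite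

attribute [-instance] CategoryTheory.catToReflQuiver

noncomputable section

namespace Groth.Agent.KDim

open Groth.Agent ExtPowSh LambdaRing

variable {K : Type v} [CommRing K] [LambdaOps K]

theorem sum_mons (h1 : ∀ i, 2 ≤ i → LambdaOps.lam i (1 : K) = 0) (g : K) : ∀ (r k : ℕ),
    ∑ m ∈ mons r k, (-1) ^ (∑ i, m i) * LambdaOps.lam (k - ∑ i, m i) g = LambdaOps.lam k (g - (r : K)) := by
  intro r
  induction r with
  | zero =>
    intro k
    rw [Finset.sum_eq_single (fun i => i.elim0) (fun m _ hm => absurd (Subsingleton.elim _ _) hm)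
      (fun h => absurd (mem_mons.2 (by simp)) h)]
    simp
  | succ r ih =>
    intro k
    have hsum : ∀ (j : ℕ) (m : Fin r → ℕ), ∑ i, (Fin.cons j m : Fin (r + 1) → ℕ) i = j + ∑ i, m i := fun j m => by
      rw [Fin.sum_univ_succ]; simp
    rw [show (g - ((r + 1 : ℕ) : K)) = (g - (r : K)) + (-1 : K) by push_cast; ring, LambdaOps.lam_add,
      ← Finset.sum_range_reflect]
    calc ∑ m ∈ mons (r + 1) k, (-1) ^ (∑ i, m i) * LambdaOps.lam (k - ∑ i, m i) g
        = ∑ x ∈ (Finset.range (k + 1)).sigma fun j => mons r (k - j),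
            (-1) ^ x.1 * ((-1) ^ (∑ i, x.2 i) * LambdaOps.lam (k - x.1 - ∑ i, x.2 i) g) := by
          refine (Finset.sum_bij' (fun (x : Σ _ : ℕ, (Fin r → ℕ)) _ => (Fin.cons x.1 x.2 : Fin (r + 1) → ℕ))
            (fun m _ => ⟨m 0, Fin.tail m⟩) (fun x hx => ?_) (fun m hm => ?_) (fun x _ => ?_) (fun m _ => ?_)
            (fun x _ => ?_)).symm
          · rw [Finset.mem_sigma, Finset.mem_range, mem_mons] at hx
            rw [mem_mons, hsum]; omega
          · rw [mem_mons, Fin.sum_univ_succ] at hm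
            rw [Finset.mem_sigma, Finset.mem_range, mem_mons]
            simp only [Fin.tail]
            omega
          · simp
          · simp
          · rw [hsum, pow_add, Nat.sub_add_eq]; ring
      _ = _ := by
          rw [Finset.sum_sigma]
          refine Finset.sum_congr rfl fun j hj => ?_
          rw [Finset.mem_range] at hj
          simp only [← Finset.mul_sum]
          rw [ih, show k + 1 - 1 - j = k - j by omega, show k - (k - j) = j by omega,
            Lambda.lam_neg_one h1, mul_comm]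

variable {X : Scheme.{u}} {G : X.Modules} (hG : Coh.IsQCoh G) {P : PosStructure K} {φ : SGA6.Kvb X →+ K}

theorem phi_cls_kPer (hK : KRR.IsModel X K P φ) {n₀ r Q : ℕ} (k : ℕ) (t : Fin n₀ → Sec G ⊤)
    (A : Fin n₀ → Fin r → Matrix (Fin Q) (Fin Q) ℤ) (hGf : FlatMod.IsFinLocFree G)
    (hA : ∀ l l' i i', A l i * A l' i' = A l' i' * A l i) :
    φ (kPer hG k t A hGf hA).cls = (Q : K) * LambdaOps.lam k (φ (KRR.cl X G) - (r : K)) := by
  show φ (∑ a : ULift.{u} (↥(mons r k) × Fin Q), sg (decide (Odd (∑ i, a.down.1.1 i))) •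
    KRR.cl X (L G (k - ∑ i, a.down.1.1 i))) = _
  rw [map_sum, Fintype.sum_equiv Equiv.ulift _
    (fun b : ↥(mons r k) × Fin Q => ((-1 : K) ^ (∑ i, b.1.1 i) * LambdaOps.lam (k - ∑ i, b.1.1 i) (φ (KRR.cl X G))))
    fun a => ?_, Fintype.sum_prod_type, ← sum_mons (Lambda.lam_one_eq_zero P) _ r k, Finset.mul_sum]
  · rw [← Finset.sum_coe_sort (mons r k)]
    exact Finset.sum_congr rfl fun m _ => by simp [Finset.sum_const, nsmul_eq_mul]
  · rw [map_zsmul, ← hK.map_lam _ G _ hGf (ExtPowSh.isFinLocFree hGf) (ExtPowSh.isExtPow G _ hG), zsmul_eq_mul]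
    refine congrArg₂ (fun p q => p * q) ?_ rfl
    show ((sg (decide (Odd (∑ i, a.down.1.1 i))) : ℤ) : K) = (-1 : K) ^ (∑ i, a.down.1.1 i)
    by_cases hodd : Odd (∑ i, a.down.1.1 i)
    · simp [sg, hodd, hodd.neg_one_pow]
    · rw [Nat.not_odd_iff_even] at hodd
      simp [sg, Nat.not_odd_iff_even.2 hodd, hodd.neg_one_pow]

end Groth.Agent.KDim
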