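import Groth.Agent.KDim.Homotopy
import Groth.Agent.ExtPowSh.Algebra
import Mathlib.RingTheory.TensorProduct.Free
import Mathlib.RingTheory.IsTensorProduct
import Mathlib.LinearAlgebra.Matrix.Basis
import Mathlib.LinearAlgebra.ExteriorPower.Basis
import Mathlib.RingTheory.Norm.Basic

/-!
# The exterior algebra after a finite free extension of scalars
-/

set_option autoImplicit false
set_option linter.style.haveILetI false
set_option linter.unusedSectionVars false
set_option backward.isDefEq.respectTransparency false
set_option backward.isDefEq.respectTransparency.types false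
set_option maxHeartbeats 1000000

universe u

open scoped TensorProduct
open Module

noncomputable section

attribute [local instance 10000] Ring.toIntAlgebra

namespace Groth.Agent.KDim

section Kill

variable {R : Type u} [CommRing R] {M : Type u} [AddCommGroup M] [Module R M]

/-- Forgetting the first `r` coordinates kills wedges longer than the rest. -/
theorem piA_eq_zero {r s q : ℕ} (b : Basis (Fin (r + s)) R M) (hq : s < q) {x : ExteriorAlgebra R M}
    (hx : x ∈ ⋀[R]^q M) : piA b r x = 0 := by
  rcases subsingleton_or_nontrivial R with hR | hR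
  · haveI := Module.subsingleton R (ExteriorAlgebra R M)
    exact Subsingleton.elim _ _
  let g : M →ₗ[R] (Fin s → R) := LinearMap.pi fun l => b.coord (Fin.natAdd r l)
  let f : (Fin s → R) →ₗ[R] M := (Pi.basisFun R (Fin s)).constr R fun l => b (Fin.natAdd r l)
  have hfg : f.comp g = projB b r := b.ext fun a => by
    refine Fin.addCases (fun i => ?_) (fun i => ?_) a
    · rw [projB_apply, if_neg (by simp), LinearMap.comp_apply, show g (b (Fin.castAdd s i)) = 0 from funext fun l => by
        have hne : Fin.natAdd r l ≠ Fin.castAdd s i := fun h => by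
          have := congrArg Fin.val h; simp at this; omega
        simp [g, Module.Basis.repr_self, Finsupp.single_eq_of_ne hne], map_zero]
    · rw [projB_apply, if_pos (by simp), LinearMap.comp_apply, show g (b (Fin.natAdd r i)) = Pi.basisFun R (Fin s) i from
        funext fun l => by simp [g, Module.Basis.repr_self, Finsupp.single_apply, Pi.single_apply, eq_comm]]
      exact (Pi.basisFun R (Fin s)).constr_basis R _ i
  haveI : Subsingleton ↥(⋀[R]^q (Fin s → R)) := by
    refine (Module.finrank_eq_zero_iff_of_free R _).1 ?_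
    rw [exteriorPower.finrank_eq, Module.finrank_fin_fun, Nat.choose_eq_zero_of_lt hq]
  have hx' : (⟨x, hx⟩ : ↥(⋀[R]^q M)) ∈ Submodule.span R (Set.range (exteriorPower.ιMulti R q (M := M))) := by
    rw [exteriorPower.ιMulti_span]; trivial
  have key : ∀ z : ↥(⋀[R]^q M), z ∈ Submodule.span R (Set.range (exteriorPower.ιMulti R q (M := M))) →
      piA b r (z : ExteriorAlgebra R M) = 0 := by
    intro z hz
    induction hz using Submodule.span_induction with
    | mem _ h =>
      obtain ⟨v, rfl⟩ := h
      rw [exteriorPower.ιMulti_apply_coe, piA, ExteriorAlgebra.map_apply_ιMulti,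
        show ⇑(projB b r) ∘ v = ⇑f ∘ (⇑g ∘ v) by rw [← hfg]; rfl, ← exteriorPower.ιMulti_apply_coe,
        ← exteriorPower.map_apply_ιMulti, Subsingleton.elim (exteriorPower.ιMulti R q (g ∘ v)) 0, map_zero]
      rfl
    | zero => simp
    | add a b _ _ ha hb => simp [ha, hb]
    | smul c a _ ha => simp [ha]
  exact key _ hx'

end Kill

section Psi

variable (R : Type u) [CommRing R] (M : Type u) [AddCommGroup M] [Module R M] (B : Type) [CommRing B]

/-- The extended scalars. -/
abbrev SB : Type u := R ⊗[ℤ] B

/-- The extended module. -/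
abbrev MB : Type u := SB R B ⊗[R] M

/-- A vector in the extended module. -/
def up : M →ₗ[R] MB R M B := TensorProduct.mk R (SB R B) M 1

/-- The comparison of exterior algebras. -/
def jA : ExteriorAlgebra R M →ₐ[R] ExteriorAlgebra (SB R B) (MB R M B) :=
  ExteriorAlgebra.lift R ⟨((ExteriorAlgebra.ι (SB R B)).restrictScalars R).comp (up R M B),
    fun m => ExteriorAlgebra.ι_sq_zero _⟩

variable {R M B}

theorem jA_ι (v : M) : jA R M B (ExteriorAlgebra.ι R v) = ExteriorAlgebra.ι (SB R B) (up R M B v) :=
  ExteriorAlgebra.lift_ι_apply R _ _ v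

theorem jA_ιMulti {q : ℕ} (w : Fin q → M) :
    jA R M B (ExteriorAlgebra.ιMulti R q w) = ExteriorAlgebra.ιMulti (SB R B) q fun i => up R M B (w i) := by
  rw [ExteriorAlgebra.ιMulti_apply, map_list_prod, ExteriorAlgebra.ιMulti_apply, List.map_ofFn]
  exact congrArg List.prod (congrArg List.ofFn (funext fun i => jA_ι (w i)))

variable {Q : ℕ} (bB : Basis (Fin Q) ℤ B)

/-- Scalars of the basis. -/
def beta (p : Fin Q) : SB R B := (1 : R) ⊗ₜ[ℤ] bB p

variable (R M B) in
/-- The scalars of the extended exterior algebra. -/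
abbrev sca : SB R B →+* ExteriorAlgebra (SB R B) (MB R M B) := algebraMap (SB R B) (ExteriorAlgebra (SB R B) (MB R M B))

/-- Tuples of forms as one form over the extended scalars. -/
def psi : (Fin Q → ExteriorAlgebra R M) →ₗ[R] ExteriorAlgebra (SB R B) (MB R M B) where
  toFun y := ∑ p, sca R M B (beta (R := R) bB p) * jA R M B (y p)
  map_add' y z := by simp [mul_add, Finset.sum_add_distrib]
  map_smul' c y := by simp [Finset.smul_sum]

theorem psi_apply (y : Fin Q → ExteriorAlgebra R M) : psi bB y = ∑ p, sca R M B (beta (R := R) bB p) * jA R M B (y p) := rfl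

theorem existsUnique_psi (q : ℕ) {x : ExteriorAlgebra (SB R B) (MB R M B)}
    (hx : x ∈ ⋀[SB R B]^q (MB R M B)) :
    ∃! y : Fin Q → ↥(⋀[R]^q M), psi bB (fun p => (y p : ExteriorAlgebra R M)) = x := by
  classical
  let F : ↥(⋀[R]^q M) →ₗ[R] ↥(⋀[SB R B]^q (MB R M B)) :=
    exteriorPower.alternatingMapLinearEquiv
      { toFun := fun w => exteriorPower.ιMulti (SB R B) q fun i => up R M B (w i)
        map_update_add' := fun w i a b => by
          have h : ∀ z, (fun j => up R M B (Function.update w i z j)) =
              Function.update (fun j => up R M B (w j)) i (up R M B z) := fun z =>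
            funext fun j => Function.apply_update (fun _ a => up R M B a) w i z j
          simp only [h, map_add, AlternatingMap.map_update_add]
        map_update_smul' := fun w i c a => by
          have h : ∀ z, (fun j => up R M B (Function.update w i z j)) =
              Function.update (fun j => up R M B (w j)) i (up R M B z) := fun z =>
            funext fun j => Function.apply_update (fun _ a => up R M B a) w i z j
          simp only [h, map_smul]
          rw [← algebraMap_smul (SB R B) c (up R M B a), AlternatingMap.map_update_smul, algebraMap_smul]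
        map_eq_zero_of_eq' := fun w i j h hij => AlternatingMap.map_eq_zero_of_eq _ _ (congrArg (up R M B) h) hij }
  have hF : ∀ v, F (exteriorPower.ιMulti R q v) = exteriorPower.ιMulti (SB R B) q (fun i => up R M B (v i)) := fun v =>
    exteriorPower.alternatingMapLinearEquiv_apply_ιMulti _ v
  have hcoe : ∀ z : ↥(⋀[R]^q M), ((F z : ↥(⋀[SB R B]^q (MB R M B))) : ExteriorAlgebra (SB R B) (MB R M B)) =
      jA R M B (z : ExteriorAlgebra R M) := by
    intro z
    have hz : z ∈ Submodule.span R (Set.range (exteriorPower.ιMulti R q (M := M))) := by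
      rw [exteriorPower.ιMulti_span]; trivial
    induction hz using Submodule.span_induction with
    | mem _ h =>
      obtain ⟨v, rfl⟩ := h
      rw [hF, exteriorPower.ιMulti_apply_coe, exteriorPower.ιMulti_apply_coe, jA_ιMulti]
    | zero => simp
    | add a b _ _ ha hb => simp [ha, hb]
    | smul c a _ ha => simp [ha]
  have hbc : IsBaseChange (SB R B) (up R M B) := TensorProduct.isBaseChange R M (SB R B)
  have hFb := ExtPowSh.isBaseChange (i := q) hbc F hF
  let β := Algebra.TensorProduct.basis R bB
  let e : (Fin Q → ↥(⋀[R]^q M)) ≃ₗ[R] ↥(⋀[SB R B]^q (MB R M B)) :=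
    ((Finsupp.linearEquivFunOnFinite R ↥(⋀[R]^q M) (Fin Q)).symm.trans
      (TensorProduct.equivFinsuppOfBasisLeft β).symm).trans (hFb.equiv.restrictScalars R)
  have he : ∀ y : Fin Q → ↥(⋀[R]^q M),
      ((e y : ↥(⋀[SB R B]^q (MB R M B))) : ExteriorAlgebra (SB R B) (MB R M B)) =
        psi bB fun p => (y p : ExteriorAlgebra R M) := by
    intro y
    have h1 : (TensorProduct.equivFinsuppOfBasisLeft β).symm ((Finsupp.linearEquivFunOnFinite R _ (Fin Q)).symm y) =
        ∑ p, β p ⊗ₜ[R] y p := by
      rw [TensorProduct.equivFinsuppOfBasisLeft_symm_apply, Finsupp.sum_fintype _ _ (fun p => by simp)]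
      rfl
    show ((hFb.equiv _ : ↥(⋀[SB R B]^q (MB R M B))) : ExteriorAlgebra (SB R B) (MB R M B)) = _
    refine (congrArg (fun w => ((hFb.equiv w : ↥(⋀[SB R B]^q (MB R M B))) : ExteriorAlgebra (SB R B) (MB R M B))) h1).trans ?_
    rw [map_sum, psi_apply, Submodule.coe_sum]
    refine Finset.sum_congr rfl fun p _ => ?_
    rw [IsBaseChange.equiv_tmul, Submodule.coe_smul, hcoe, Algebra.TensorProduct.basis_apply]
    exact Algebra.smul_def _ _
  refine ⟨e.symm ⟨x, hx⟩, ?_, fun y hy => ?_⟩
  · show psi bB _ = x
    rw [← he, LinearEquiv.apply_symm_apply]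
  · rw [LinearEquiv.eq_symm_apply]
    exact Subtype.ext ((he y).trans hy)

theorem psi_mem {q : ℕ} {y : Fin Q → ExteriorAlgebra R M} (hy : ∀ p, y p ∈ ⋀[R]^q M) :
    psi bB y ∈ ⋀[SB R B]^q (MB R M B) := by
  rw [psi_apply]
  refine Submodule.sum_mem _ fun p _ => ?_
  rw [← Algebra.smul_def]
  refine Submodule.smul_mem _ _ ?_
  have h : jA R M B (y p) ∈ (⋀[R]^q M).map (jA R M B).toLinearMap := ⟨y p, hy p, rfl⟩
  rw [ExteriorAlgebra.exteriorPower, Submodule.map_pow] at h
  have hle : ((LinearMap.range (ExteriorAlgebra.ι R (M := M))).map (jA R M B).toLinearMap) ^ q ≤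
      ((LinearMap.range (ExteriorAlgebra.ι (SB R B) (M := MB R M B))) ^ q).restrictScalars R := by
    clear h hy
    induction q with
    | zero =>
      rw [pow_zero, pow_zero]
      intro z hz
      obtain ⟨c, rfl⟩ := Submodule.mem_one.1 hz
      exact Submodule.mem_one.2 ⟨algebraMap R (SB R B) c, (IsScalarTower.algebraMap_apply R (SB R B) _ c).symm⟩
    | succ q ih =>
      rw [pow_succ', pow_succ']
      refine Submodule.mul_le.2 fun a ha c hc => ?_
      obtain ⟨_, ⟨v, rfl⟩, rfl⟩ := ha
      refine Submodule.mul_mem_mul (M := LinearMap.range (ExteriorAlgebra.ι (SB R B) (M := MB R M B))) ⟨up R M B v, ?_⟩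
        (ih hc)
      exact (jA_ι v).symm
  exact hle h

/-- Multiplication by a vector with a coefficient in `B` in terms of tuples. -/
theorem psi_mul (m : B) (v : M) (y : Fin Q → ExteriorAlgebra R M) :
    psi bB (fun p' => ∑ p, Algebra.leftMulMatrix bB m p' p • (ExteriorAlgebra.ι R v * y p)) =
      sca R M B ((1 : R) ⊗ₜ[ℤ] m) * ExteriorAlgebra.ι (SB R B) (up R M B v) * psi bB y := by
  have hm : ∀ p, ((1 : R) ⊗ₜ[ℤ] m : SB R B) * beta (R := R) bB p = ∑ p', Algebra.leftMulMatrix bB m p' p • beta (R := R) bB p' := by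
    intro p
    rw [beta, Algebra.TensorProduct.tmul_mul_tmul, one_mul]
    conv_lhs => rw [← bB.sum_repr (m * bB p)]
    rw [TensorProduct.tmul_sum]
    refine Finset.sum_congr rfl fun p' _ => ?_
    rw [Algebra.leftMulMatrix_eq_repr_mul, TensorProduct.tmul_smul]
    rfl
  simp only [psi_apply, map_sum, map_zsmul, map_mul, jA_ι, Finset.mul_sum]
  rw [Finset.sum_comm]
  refine Finset.sum_congr rfl fun p _ => ?_
  rw [mul_assoc (sca R M B _), ← mul_assoc (ExteriorAlgebra.ι (SB R B) (up R M B v)) (sca R M B _),
    ← Algebra.commutes, mul_assoc (sca R M B _), ← mul_assoc (sca R M B ((1 : R) ⊗ₜ[ℤ] m)), ← map_mul, hm, map_sum,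
    Finset.sum_mul]
  refine Finset.sum_congr rfl fun p' _ => ?_
  rw [map_zsmul, mul_smul_comm, smul_mul_assoc]

end Psi

end Groth.Agent.KDim
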