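import Groth.Agent.KDim.Wedge
import Groth.Agent.KDim.Scalars

/-!
# Contractibility of the complexes on small affines
-/

set_option autoImplicit false
set_option linter.style.haveILetI false
set_option linter.unusedSectionVars false
set_option backward.isDefEq.respectTransparency false
set_option backward.isDefEq.respectTransparency.types false
set_option maxHeartbeats 1000000

universe u

open CategoryTheory CategoryTheory.Limits AlgebraicGeometry TopologicalSpace Opposite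
open scoped TensorProduct

attribute [-instance] CategoryTheory.catToReflQuiver
attribute [local instance 10000] Ring.toIntAlgebra

noncomputable section

namespace Groth.Agent.KDim

open Groth.Agent ExtPowSh

section Alg

variable {R : Type u} [CommRing R] {M : Type u} [AddCommGroup M] [Module R M] {e r : ℕ}
  (b : Module.Basis (Fin e) R M) (hr : r ≤ e)

theorem hmat_mem {k : ℕ} {a c : Fin r → ℕ} (hc : ∑ i, c i ≤ k) {x : ExteriorAlgebra R M}
    (hx : x ∈ ⋀[R]^(k - ∑ i, a i) M) : hmat b hr a c x ∈ ⋀[R]^(k - ∑ i, c i) M := by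
  classical
  rw [hmat, LinearMap.sum_apply]
  refine Submodule.sum_mem _ fun i _ => ?_
  split_ifs with h
  · refine cA_mem b _ _ (piA_mem b _ _ ?_)
    rw [h.1, sum_add_e1] at hc ⊢
    rwa [show k - (∑ l, a l + 1) + 1 = k - ∑ l, a l by omega]
  · exact Submodule.zero_mem _

theorem hmat_top {k : ℕ} {a c : Fin r → ℕ} (hc : ∑ i, c i = k + 1) {x : ExteriorAlgebra R M}
    (hx : x ∈ ⋀[R]^(k - ∑ i, a i) M) : hmat b hr a c x = 0 := by
  classical
  rw [hmat, LinearMap.sum_apply]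
  refine Finset.sum_eq_zero fun i _ => ?_
  split_ifs with h
  · rw [h.1, sum_add_e1] at hc
    rw [show k - ∑ l, a l = 0 by omega, ExteriorAlgebra.exteriorPower, pow_zero] at hx
    obtain ⟨z, rfl⟩ := Submodule.mem_one.1 hx
    show cA b _ (piA b _ (algebraMap R _ z)) = 0
    rw [AlgHom.commutes, cA_algebraMap]
  · rfl

theorem dmat_top {k : ℕ} {a c : Fin r → ℕ} (ha : ∑ i, a i ≤ k) (hc : ∑ i, c i = k + 1) (x : ExteriorAlgebra R M) :
    dmat b hr a c x = 0 := by
  rw [dmat, LinearMap.sum_apply]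
  refine Finset.sum_eq_zero fun i _ => ?_
  rw [if_neg fun h => by rw [h, sum_add_e1] at ha; omega]
  rfl

end Alg

variable {X : Scheme.{u}} {G : X.Modules} (hG : Coh.IsQCoh G)

section Theta

variable {B : Type} [CommRing B] {Q : ℕ} (bB : Module.Basis (Fin Q) ℤ B) (U : X.affineOpens) (q : ℕ)

/-- Tuples of sections, as one form over the extended scalars. -/
def theta : (Fin Q → Sec (L G q) U.1) →ₗ[Γ(X, U.1)]
    ↥((⋀[SB Γ(X, U.1) B]^q (MB Γ(X, U.1) (Sec G U.1) B)).restrictScalars Γ(X, U.1)) :=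
  LinearMap.codRestrict _ ((psi bB).comp (LinearMap.pi fun p => (emb hG q U).comp (LinearMap.proj p)))
    fun y => psi_mem bB fun p => emb_mem hG q U (y p)

theorem theta_coe (y : Fin Q → Sec (L G q) U.1) :
    ((theta hG bB U q y : ↥((⋀[SB Γ(X, U.1) B]^q (MB Γ(X, U.1) (Sec G U.1) B)).restrictScalars Γ(X, U.1))) :
      ExteriorAlgebra (SB Γ(X, U.1) B) (MB Γ(X, U.1) (Sec G U.1) B)) = psi bB fun p => emb hG q U (y p) := rfl

theorem theta_bijective : Function.Bijective (theta hG bB U q) := by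
  let e := LinearEquiv.ofBijective (toL G q U.1) (toL_bijective G q hG U.2)
  have he : ∀ w, emb hG q U w = ((e.symm w : ↥(⋀[Γ(X, U.1)]^q (Sec G U.1))) : ExteriorAlgebra Γ(X, U.1) (Sec G U.1)) :=
    fun w => rfl
  refine ⟨fun y y' h => funext fun p => e.symm.injective (congrFun
    ((existsUnique_psi bB q (x := psi bB fun p => emb hG q U (y p)) (psi_mem bB fun p => emb_mem hG q U (y p))).unique
      (y₁ := fun p => e.symm (y p)) (y₂ := fun p => e.symm (y' p)) rfl (congrArg Subtype.val h).symm) p), fun x => ?_⟩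
  obtain ⟨z, hz, -⟩ := existsUnique_psi bB q (x := x.1) x.2
  refine ⟨fun p => e (z p), Subtype.ext ((theta_coe hG bB U q _).trans ?_)⟩
  simp only [he, LinearEquiv.symm_apply_apply]
  exact hz

/-- `theta` as an equivalence. -/
def thetaE : (Fin Q → Sec (L G q) U.1) ≃ₗ[Γ(X, U.1)]
    ↥((⋀[SB Γ(X, U.1) B]^q (MB Γ(X, U.1) (Sec G U.1) B)).restrictScalars Γ(X, U.1)) :=
  LinearEquiv.ofBijective (theta hG bB U q) (theta_bijective hG bB U q)

end Theta

variable {n₀ r s Q : ℕ} {B : Type} [CommRing B] (bB : Module.Basis (Fin Q) ℤ B) (k : ℕ) (t : Fin n₀ → Sec G ⊤)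
  (Mx : Matrix (Fin n₀) (Fin r) B)

/-- The integer matrices of the coefficients. -/
def Amat : Fin n₀ → Fin r → Matrix (Fin Q) (Fin Q) ℤ := fun l i => Algebra.leftMulMatrix bB (Mx l i)

theorem Amat_comm (l l' : Fin n₀) (i i' : Fin r) :
    Amat bB Mx l i * Amat bB Mx l' i' = Amat bB Mx l' i' * Amat bB Mx l i := by
  simp only [Amat, ← map_mul, mul_comm]

variable (hGf : FlatMod.IsFinLocFree G)

theorem theta_d (U : X.affineOpens) (b : Module.Basis (Fin (r + s)) (SB Γ(X, U.1) B) (MB Γ(X, U.1) (Sec G U.1) B))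
    (hb : ∀ i, ExteriorAlgebra.ι (SB Γ(X, U.1) B) (b (Fin.castAdd s i)) = ∑ l,
      sca Γ(X, U.1) (Sec G U.1) B ((1 : Γ(X, U.1)) ⊗ₜ[ℤ] Mx l i) *
        ExteriorAlgebra.ι (SB Γ(X, U.1) B) (up Γ(X, U.1) (Sec G U.1) B (secAt G (t l) U.1)))
    {mb mc : Fin r → ℕ} (hmb : ∑ i, mb i ≤ k) (w : Fin Q → Sec (L G (k - ∑ i, mb i)) U.1) :
    psi bB (fun pc => emb hG (k - ∑ i, mc i) U
        (∑ pb, appL (kD hG k t (Amat bB Mx) (mb, pb) (mc, pc)) U.1 (w pb))) =
      dmat b (Nat.le_add_right r s) mb mc (psi bB fun p => emb hG (k - ∑ i, mb i) U (w p)) := by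
  classical
  have h1 : ∀ pc, emb hG (k - ∑ i, mc i) U (∑ pb, appL (kD hG k t (Amat bB Mx) (mb, pb) (mc, pc)) U.1 (w pb)) =
      (∑ i : Fin r, if mb = mc + e1 i then ∑ l, (fun pc => ∑ pb, Algebra.leftMulMatrix bB (Mx l i) pc pb •
        (ExteriorAlgebra.ι Γ(X, U.1) (secAt G (t l) U.1) * emb hG (k - ∑ i, mb i) U (w pb))) else 0) pc := by
    intro pc
    rw [map_sum, Finset.sum_apply]
    refine Eq.trans (Finset.sum_congr rfl fun pb _ =>
      emb_kD hG k t (Amat bB Mx) (a := (mb, pb)) (c := (mc, pc)) hmb U (w pb)) ?_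
    rw [Finset.sum_comm]
    refine Finset.sum_congr rfl fun i _ => ?_
    split_ifs with h
    · rw [Finset.sum_apply, Finset.sum_comm]
      rfl
    · exact Finset.sum_const_zero
  rw [funext h1, map_sum, dmat, LinearMap.sum_apply]
  refine Finset.sum_congr rfl fun i _ => ?_
  split_ifs with h
  · rw [map_sum, LinearMap.mulLeft_apply,
      show Fin.castLE (Nat.le_add_right r s) i = Fin.castAdd s i from rfl, hb, Finset.sum_mul]
    exact Finset.sum_congr rfl fun l _ => psi_mul bB (Mx l i) _ _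
  · rw [map_zero]; rfl

omit [CommRing B] in
theorem sum_ulift {ι : Type} [Fintype ι] {M : Type*} [AddCommMonoid M] (f : ULift.{u} ι → M) :
    ∑ x, f x = ∑ y, f (ULift.up y) :=
  Fintype.sum_equiv Equiv.ulift _ _ fun _ => rfl

theorem single_diag {α β : Type} [DecidableEq α] [DecidableEq β] {N : α → Type u} [∀ a, AddCommGroup (N a)]
    (ma mc : α) (pa pc : β) (z : N ma) :
    (if hac : ma = mc then hac ▸ (Pi.single pa z : β → N ma) else 0) pc =
      Pi.single (M := fun x : ULift.{u} (α × β) => N x.down.1) (ULift.up (ma, pa)) z (ULift.up (mc, pc)) := by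
  by_cases hac : ma = mc
  · subst hac
    rw [dif_pos rfl]
    show (Pi.single pa z : β → N ma) pc = _
    rcases eq_or_ne pa pc with rfl | hne
    · rw [Pi.single_eq_same, Pi.single_eq_same]
    · rw [Pi.single_eq_of_ne hne.symm, Pi.single_eq_of_ne (fun h => hne.symm (congrArg (fun x => x.down.2) h))]
  · rw [dif_neg hac, Pi.single_eq_of_ne (fun h => hac (congrArg (fun x => x.down.1) h).symm)]
    rfl

theorem tuple_ext (U : X.affineOpens) (q : ℕ) {y y' : Fin Q → Sec (L G q) U.1}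
    (h : psi bB (fun p => emb hG q U (y p)) = psi bB fun p => emb hG q U (y' p)) : y = y' :=
  (theta_bijective hG bB U q).1 (Subtype.ext h)

theorem exists_tupleMap (U : X.affineOpens) (q q' : ℕ)
    (φ : ExteriorAlgebra (SB Γ(X, U.1) B) (MB Γ(X, U.1) (Sec G U.1) B) →ₗ[SB Γ(X, U.1) B]
      ExteriorAlgebra (SB Γ(X, U.1) B) (MB Γ(X, U.1) (Sec G U.1) B))
    (hφ : ∀ x, x ∈ ⋀[SB Γ(X, U.1) B]^q (MB Γ(X, U.1) (Sec G U.1) B) →
      φ x ∈ ⋀[SB Γ(X, U.1) B]^q' (MB Γ(X, U.1) (Sec G U.1) B)) :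
    ∃ H : (Fin Q → Sec (L G q) U.1) →ₗ[Γ(X, U.1)] (Fin Q → Sec (L G q') U.1),
      ∀ w, psi bB (fun p => emb hG q' U (H w p)) = φ (psi bB fun p => emb hG q U (w p)) := by
  let ψ : (Fin Q → Sec (L G q) U.1) →ₗ[Γ(X, U.1)]
      ↥((⋀[SB Γ(X, U.1) B]^q' (MB Γ(X, U.1) (Sec G U.1) B)).restrictScalars Γ(X, U.1)) :=
    LinearMap.codRestrict _ ((φ.restrictScalars Γ(X, U.1)).comp
      ((Submodule.subtype _).comp (theta hG bB U q))) fun w => hφ _ (theta hG bB U q w).2
  refine ⟨(thetaE hG bB U q').symm.toLinearMap.comp ψ, fun w => ?_⟩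
  exact (theta_coe hG bB U q' _).symm.trans (congrArg Subtype.val ((thetaE hG bB U q').apply_symm_apply (ψ w)))

/-- The differential on tuples. -/
def dTup (U : X.affineOpens) (mb md : Fin r → ℕ) (w : Fin Q → Sec (L G (k - ∑ i, mb i)) U.1) :
    Fin Q → Sec (L G (k - ∑ i, md i)) U.1 :=
  fun p => ∑ pb, appL (kD hG k t (Amat bB Mx) (mb, pb) (md, p)) U.1 (w pb)

/-- The basis has the combined sections as its first vectors. -/
def Adapted (U : X.affineOpens)
    (b : Module.Basis (Fin (r + s)) (SB Γ(X, U.1) B) (MB Γ(X, U.1) (Sec G U.1) B)) : Prop :=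
  ∀ i, ExteriorAlgebra.ι (SB Γ(X, U.1) B) (b (Fin.castAdd s i)) = ∑ l,
    sca Γ(X, U.1) (Sec G U.1) B ((1 : Γ(X, U.1)) ⊗ₜ[ℤ] Mx l i) *
      ExteriorAlgebra.ι (SB Γ(X, U.1) B) (up Γ(X, U.1) (Sec G U.1) B (secAt G (t l) U.1))

open scoped Classical in
theorem key_sum {U : X.affineOpens} (hk : s < k)
    (b : Module.Basis (Fin (r + s)) (SB Γ(X, U.1) B) (MB Γ(X, U.1) (Sec G U.1) B))
    (hb : Adapted t Mx U b)
    (Hm : ∀ (ma mc : ↥(mons r k)), (Fin Q → Sec (L G (k - ∑ i, ma.1 i)) U.1) →ₗ[Γ(X, U.1)]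
      (Fin Q → Sec (L G (k - ∑ i, mc.1 i)) U.1))
    (hHm : ∀ ma mc w, psi bB (fun p => emb hG (k - ∑ i, mc.1 i) U (Hm ma mc w p)) =
      hmat b (Nat.le_add_right r s) ma.1 mc.1 (psi bB fun p => emb hG (k - ∑ i, ma.1 i) U (w p)))
    (ma mc : ↥(mons r k)) (w₀ : Fin Q → Sec (L G (k - ∑ i, ma.1 i)) U.1) :
    (∑ mb : ↥(mons r k), (dTup hG bB k t Mx U mb.1 mc.1 (Hm ma mb w₀) +
      Hm mb mc (dTup hG bB k t Mx U ma.1 mb.1 w₀))) = if hac : ma = mc then hac ▸ w₀ else 0 := by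
  refine tuple_ext hG bB U _ ?_
  set Y := psi bB fun p => emb hG (k - ∑ i, ma.1 i) U (w₀ p) with hY
  have hYm : Y ∈ ⋀[SB Γ(X, U.1) B]^(k - ∑ i, ma.1 i) (MB Γ(X, U.1) (Sec G U.1) B) :=
    psi_mem bB fun p => emb_mem hG _ U _
  have hr := Nat.le_add_right r s
  let Ψ : (Fin Q → Sec (L G (k - ∑ i, mc.1 i)) U.1) →+ ExteriorAlgebra (SB Γ(X, U.1) B) (MB Γ(X, U.1) (Sec G U.1) B) :=
    AddMonoidHom.mk' (fun y => psi bB fun p => emb hG (k - ∑ i, mc.1 i) U (y p)) fun y y' => by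
      rw [← map_add]
      exact congrArg _ (funext fun p => map_add _ _ _)
  have hterm : ∀ mb : ↥(mons r k), Ψ (dTup hG bB k t Mx U mb.1 mc.1 (Hm ma mb w₀) +
      Hm mb mc (dTup hG bB k t Mx U ma.1 mb.1 w₀)) =
      dmat b hr mb.1 mc.1 (hmat b hr ma.1 mb.1 Y) + hmat b hr mb.1 mc.1 (dmat b hr ma.1 mb.1 Y) := by
    intro mb
    rw [map_add]
    refine congrArg₂ (fun p q => p + q) ?_ ?_
    · refine (theta_d hG bB k t Mx U b hb (mem_mons.1 mb.2) _).trans ?_
      rw [hHm]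
    · refine (hHm _ _ _).trans (congrArg _ ?_)
      exact theta_d hG bB k t Mx U b hb (mem_mons.1 ma.2) w₀
  refine Eq.trans (map_sum Ψ _ _) ((Finset.sum_congr rfl fun mb _ => hterm mb).trans ?_)
  rw [Finset.sum_coe_sort (mons r k) fun m =>
      dmat b hr m mc.1 (hmat b hr ma.1 m Y) + hmat b hr m mc.1 (dmat b hr ma.1 m Y),
    Finset.sum_subset (s₂ := mons r (k + 1)) (fun m hm => mem_mons.2 ((mem_mons.1 hm).trans (Nat.le_succ k)))
      (fun m hm hm' => ?_)]
  · refine (homotopy b hr ma.1 mc.1 Y (fun hz => piA_eq_zero b hk ?_) _ (fun i _ => mem_mons.2 ?_)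
      (fun l hl => mem_mons.2 ?_)).trans ?_
    · simpa [hz] using hYm
    · rw [sum_add_e1]; have := mem_mons.1 ma.2; omega
    · have h1 : ∑ i, (ma.1 - e1 l) i ≤ ∑ i, ma.1 i := Finset.sum_le_sum fun i _ => Nat.sub_le _ _
      have := mem_mons.1 ma.2
      omega
    · by_cases hac : ma = mc
      · subst hac
        rw [if_pos rfl, dif_pos rfl]
      · rw [if_neg (fun h => hac (Subtype.ext h)), dif_neg hac]
        exact (map_zero Ψ).symm
  · have hsum : ∑ i, m i = k + 1 := by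
      have h1 := mem_mons.1 hm
      have h2 : ¬ ∑ i, m i ≤ k := fun h => hm' (mem_mons.2 h)
      omega
    rw [hmat_top b hr hsum hYm, map_zero, dmat_top b hr (mem_mons.1 ma.2) hsum, map_zero, add_zero]

include hG in
theorem splitOn_kPer {U : X.affineOpens} (hk : s < k)
    (b : Module.Basis (Fin (r + s)) (SB Γ(X, U.1) B) (MB Γ(X, U.1) (Sec G U.1) B))
    (hb : Adapted t Mx U b) :
    (kPer hG k t (Amat bB Mx) hGf (Amat_comm bB Mx)).SplitOn U.1 := by
  classical
  have hr := Nat.le_add_right r s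
  choose Hm hHm using fun (ma mc : ↥(mons r k)) => exists_tupleMap hG bB U (k - ∑ i, ma.1 i) (k - ∑ i, mc.1 i)
    (hmat b hr ma.1 mc.1) fun x hx => hmat_mem b hr (mem_mons.1 mc.2) hx
  let h : ∀ a c : ULift.{u} (↥(mons r k) × Fin Q), Sec (L G (k - ∑ i, a.down.1.1 i)) U.1 →ₗ[Γ(X, U.1)]
      Sec (L G (k - ∑ i, c.down.1.1 i)) U.1 := fun a c =>
    (LinearMap.proj c.down.2).comp ((Hm a.down.1 c.down.1).comp (LinearMap.single Γ(X, U.1)
      (fun _ : Fin Q => Sec (L G (k - ∑ i, a.down.1.1 i)) U.1) a.down.2))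
  refine ⟨h, fun a c hac => ?_, ?_⟩
  · refine LinearMap.ext fun z => ?_
    have h0 : ∀ w, Hm a.down.1 c.down.1 w = 0 := fun w => by
      refine tuple_ext hG bB U _ ((hHm _ _ w).trans ?_)
      rw [hmat, LinearMap.sum_apply, Finset.sum_eq_zero fun i _ => ?_]
      · rw [show (fun p => emb hG (k - ∑ i, c.down.1.1 i) U ((0 : Fin Q → Sec (L G (k - ∑ i, c.down.1.1 i)) U.1) p)) = 0
          from funext fun p => map_zero _, map_zero]
      rw [if_neg]
      · rfl
      rintro ⟨he, -⟩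
      have hs := sum_add_e1 a.down.1.1 i
      rw [← he] at hs
      change decide (Odd _) = decide (Odd _) at hac
      rw [decide_eq_decide, hs, Nat.odd_add_one] at hac
      tauto
    show Hm a.down.1 c.down.1 _ c.down.2 = 0
    rw [h0]
    rfl
  rintro ⟨ma, pa⟩ ⟨mc, pc⟩ z
  have hk1 := congrFun (key_sum hG bB k t Mx hk b hb Hm hHm ma mc (Pi.single pa z)) pc
  rw [Finset.sum_apply] at hk1
  refine (sum_ulift _).trans ?_
  rw [Fintype.sum_prod_type]
  refine Eq.trans (Finset.sum_congr rfl fun mb _ => ?_) (hk1.trans ?_)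
  · have hd : dTup hG bB k t Mx U ma.1 mb.1 (Pi.single pa z) =
        fun p => appL (kD hG k t (Amat bB Mx) (ma.1, pa) (mb.1, p)) U.1 z := funext fun p => by
      refine (Finset.sum_eq_single pa (fun pb _ hne => ?_) (fun h => absurd (Finset.mem_univ _) h)).trans ?_
      · rw [Pi.single_eq_of_ne hne, map_zero]
      · rw [Pi.single_eq_same]
    rw [Finset.sum_add_distrib, hd]
    refine congrArg₂ (fun p q => p + q) rfl ?_
    refine ((Finset.sum_apply pc Finset.univ _).symm.trans (congrFun (map_sum (Hm mb mc) _ _).symm pc)).trans ?_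
    exact congrArg (fun w => Hm mb mc w pc) (Finset.univ_sum_single _)
  · exact single_diag (N := fun m : ↥(mons r k) => Sec (L G (k - ∑ i, m.1 i)) U.1) ma mc pa pc z

end Groth.Agent.KDim
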