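import Mathlib.Topology.KrullDimension
import Mathlib.Topology.NoetherianSpace
import Mathlib.Topology.Sober

/-!
# Depth of points inside closed subsets
-/

set_option autoImplicit false

open TopologicalSpace

namespace Groth.Agent.KDim

variable {T : Type*} [TopologicalSpace T]

/-- `x` lies in `Z` under a chain of `k` proper generalizations inside `Z`. -/
def Deep (Z : Set T) : ℕ → T → Prop
  | 0, x => x ∈ Z
  | k + 1, x => x ∈ Z ∧ ∃ y, y ≠ x ∧ y ⤳ x ∧ Deep Z k y

theorem Deep.mem {Z : Set T} : ∀ {k : ℕ} {x : T}, Deep Z k x → x ∈ Z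
  | 0, _, h => h
  | _ + 1, _, h => h.1

theorem Deep.mono {Z : Set T} : ∀ {k : ℕ} {x : T}, Deep Z (k + 1) x → Deep Z k x
  | 0, _, h => h.1
  | _ + 1, _, h => ⟨h.1, h.2.imp fun _ hy => ⟨hy.1, hy.2.1, hy.2.2.mono⟩⟩

theorem Deep.anti {Z : Set T} {k l : ℕ} (h : k ≤ l) {x : T} (hx : Deep Z l x) : Deep Z k x := by
  induction h with
  | refl => exact hx
  | step _ ih => exact ih hx.mono

theorem Deep.trans {Z Z' : Set T} {k : ℕ} (hZ' : ∀ y ∈ Z', Deep Z k y) :
    ∀ {l : ℕ} {x : T}, Deep Z' l x → Deep Z (k + l) x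
  | 0, _, h => hZ' _ h
  | _ + 1, _, h =>
    ⟨(hZ' _ h.1).mem, h.2.imp fun _ hy => ⟨hy.1, hy.2.1, Deep.trans hZ' hy.2.2⟩⟩

theorem finite_critical [NoetherianSpace T] [QuasiSober T] [T0Space T] {Z F : Set T} (hF : IsClosed F) {k : ℕ}
    (hd : ∀ x ∈ F, Deep Z k x) : {x | x ∈ F ∧ ¬ Deep Z (k + 1) x}.Finite := by
  classical
  obtain ⟨S, hfin, hcl, hirr, hun⟩ := NoetherianSpace.exists_finite_set_isClosed_irreducible hF
  have hgen : ∀ C : Set T, IsIrreducible C ∧ IsClosed C ∧ C ⊆ F → {x | x ∈ C ∧ ¬ Deep Z (k + 1) x}.Subsingleton := by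
    intro C hC x hx y hy
    obtain ⟨g, hg⟩ := QuasiSober.sober hC.1 hC.2.1
    have key : ∀ z ∈ {x | x ∈ C ∧ ¬ Deep Z (k + 1) x}, z = g := fun z hz => by
      by_contra hne
      exact hz.2 ⟨(hd z (hC.2.2 hz.1)).mem, g, Ne.symm hne, hg.specializes hz.1, hd g (hC.2.2 hg.mem)⟩
    rw [key x hx, key y hy]
  refine (hfin.biUnion (t := fun C => {x | x ∈ C ∧ ¬ Deep Z (k + 1) x ∧ C ⊆ F}) fun C hC => ?_).subset
    fun x hx => ?_
  · by_cases hCF : C ⊆ F
    · exact ((hgen C ⟨hirr C hC, hcl C hC, hCF⟩).anti fun x hx => ⟨hx.1, hx.2.1⟩).finite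
    · exact Set.Finite.subset Set.finite_empty fun x hx => hCF hx.2.2
  · obtain ⟨C, hC, hxC⟩ := Set.mem_sUnion.1 (hun ▸ hx.1)
    exact Set.mem_iUnion₂.2 ⟨C, hC, hxC, hx.2, hun ▸ Set.subset_sUnion_of_mem hC⟩

theorem not_deep [QuasiSober T] [T0Space T] {d : ℕ} (hd : topologicalKrullDim T ≤ (d : WithBot ℕ∞)) (Z : Set T) :
    ∀ x, ¬ Deep Z (d + 1) x := by
  have key : ∀ (k : ℕ) (x : T), Deep Z k x →
      ∃ p : LTSeries (IrreducibleCloseds T), p.length = k ∧
        (p.head : Set T) = closure {x} := by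
    intro k
    induction k with
    | zero => exact fun x _ => ⟨RelSeries.singleton _ ⟨closure {x}, isIrreducible_singleton.closure, isClosed_closure⟩, rfl, rfl⟩
    | succ k ih =>
      rintro x ⟨-, y, hne, hy, hD⟩
      obtain ⟨p, hp, hhead⟩ := ih y hD
      let c : IrreducibleCloseds T := ⟨closure {x}, isIrreducible_singleton.closure, isClosed_closure⟩
      have hlt : c < p.head := by
        refine lt_of_le_of_ne (SetLike.coe_subset_coe.1 ?_) fun h => ?_
        · rw [hhead]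
          exact closure_minimal (Set.singleton_subset_iff.2 hy.mem_closure) isClosed_closure
        · have h' : closure ({x} : Set T) = closure {y} := (congrArg (fun t : IrreducibleCloseds T => (t : Set T)) h).trans hhead
          exact hne (IsGenericPoint.eq (show IsGenericPoint y (closure {x}) from h'.symm) rfl)
      exact ⟨p.cons c hlt, by simp [hp], by simp [c]⟩
  intro x hx
  obtain ⟨p, hp, -⟩ := key _ x hx
  have h := (Order.LTSeries.length_le_krullDim p).trans hd
  rw [hp] at h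
  have h' : (d + 1 : ℕ) ≤ d := by exact_mod_cast h
  omega

end Groth.Agent.KDim
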