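import Mathlib.FieldTheory.Finite.GaloisField
import Mathlib.FieldTheory.PrimitiveElement
import Mathlib.RingTheory.Polynomial.GaussLemma
import Mathlib.RingTheory.Polynomial.IrreducibleRing
import Mathlib.Data.Nat.ChineseRemainder
import Mathlib.FieldTheory.Minpoly.Field

/-!
# Integral polynomials irreducible modulo given primes
-/

set_option autoImplicit false

open Polynomial

noncomputable section

namespace Groth.Agent.KDim

theorem exists_irreducible_zmod (p q : ℕ) [Fact p.Prime] (hq : q ≠ 0) :
    ∃ f : (ZMod p)[X], f.Monic ∧ Irreducible f ∧ f.natDegree = q := by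
  obtain ⟨α, hα⟩ := Field.exists_primitive_element (ZMod p) (GaloisField p q)
  have hint : IsIntegral (ZMod p) α := Algebra.IsIntegral.isIntegral α
  refine ⟨minpoly (ZMod p) α, minpoly.monic hint, minpoly.irreducible hint, ?_⟩
  rw [← IntermediateField.adjoin.finrank hint, hα, IntermediateField.finrank_top', GaloisField.finrank p hq]

/-- A monic polynomial irreducible modulo every prime in a finite set. -/
theorem exists_irreducible_int (P : Finset ℕ) (hP : ∀ p ∈ P, p.Prime) {q : ℕ} (hq : q ≠ 0) :
    ∃ h : ℤ[X], h.Monic ∧ h.natDegree = q ∧ ∀ p ∈ P, Irreducible (h.map (Int.castRingHom (ZMod p))) := by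
  classical
  have hf : ∀ p ∈ P, ∃ f : (ZMod p)[X], f.Monic ∧ Irreducible f ∧ f.natDegree = q := fun p hp =>
    haveI := Fact.mk (hP p hp); exists_irreducible_zmod p q hq
  choose f hmon hirr hdeg using hf
  have hne : ∀ p ∈ P, id p ≠ 0 := fun p hp => (hP p hp).ne_zero
  have hco : Set.Pairwise (↑P) (Function.onFun Nat.Coprime (id : ℕ → ℕ)) := fun a ha b hb hab =>
    (Nat.coprime_primes (hP a ha) (hP b hb)).2 hab
  let c : ℕ → ℕ := fun i => (Nat.chineseRemainderOfFinset
    (fun p => if hp : p ∈ P then ((f p hp).coeff i).val else 0) id P hne hco).1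
  have hc : ∀ i p (hp : p ∈ P), ((c i : ℕ) : ZMod p) = (f p hp).coeff i := fun i p hp => by
    have h := (Nat.chineseRemainderOfFinset
      (fun p => if hp : p ∈ P then ((f p hp).coeff i).val else 0) id P hne hco).2 p hp
    simp only [dif_pos hp, id_eq] at h
    haveI : NeZero p := ⟨(hP p hp).ne_zero⟩
    exact ((ZMod.natCast_eq_natCast_iff _ _ _).2 h).trans (ZMod.natCast_zmod_val _)
  let r : ℤ[X] := ∑ i ∈ Finset.range q, C (c i : ℤ) * X ^ i
  have hr : r.degree < (q : ℕ) := by
    refine (degree_sum_le _ _).trans_lt ((Finset.sup_lt_iff (WithBot.bot_lt_coe q)).2 fun i hi => ?_)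
    exact (degree_C_mul_X_pow_le _ _).trans_lt (WithBot.coe_lt_coe.2 (Finset.mem_range.1 hi))
  refine ⟨X ^ q + r, monic_X_pow_add hr, ?_, fun p hp => ?_⟩
  · refine natDegree_eq_of_degree_eq_some ?_
    rw [degree_add_eq_left_of_degree_lt (by rwa [degree_X_pow]), degree_X_pow]
  · have : (X ^ q + r).map (Int.castRingHom (ZMod p)) = f p hp := by
      haveI := Fact.mk (hP p hp)
      conv_rhs => rw [(hmon p hp).as_sum, hdeg p hp]
      simp only [r, Polynomial.map_add, Polynomial.map_pow, map_X, Polynomial.map_sum, Polynomial.map_mul, map_C]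
      refine congrArg _ (Finset.sum_congr rfl fun i _ => ?_)
      rw [← hc i p hp]
      simp
    rw [this]
    exact hirr p hp

/-- Roots of such a polynomial in the residue characteristics satisfy no shorter sign relation. -/
theorem eval₂_ne_zero_of_root {h : ℤ[X]} (hm : h.Monic) {L : Type*} [Field L]
    (hirr : ∀ p : ℕ, p.Prime → (ringChar L = p ∨ (ringChar L = 0 ∧ p = 2)) → Irreducible (h.map (Int.castRingHom (ZMod p))))
    {f : ℤ[X]} (hf : f.natDegree < h.natDegree) (hf0 : f ≠ 0) (hcoef : ∀ i, f.coeff i = 0 ∨ f.coeff i = 1 ∨ f.coeff i = -1)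
    {α : L} (hα : h.eval₂ (Int.castRingHom L) α = 0) : f.eval₂ (Int.castRingHom L) α ≠ 0 := by
  intro hfα
  rcases CharP.char_is_prime_or_zero L (ringChar L) with hp | hp
  · haveI := Fact.mk hp
    letI : Algebra (ZMod (ringChar L)) L := ZMod.algebra L (ringChar L)
    have hi := hirr _ hp (Or.inl rfl)
    have e : ∀ g : ℤ[X], aeval α (g.map (Int.castRingHom (ZMod (ringChar L)))) = g.eval₂ (Int.castRingHom L) α := fun g => by
      rw [aeval_def, eval₂_map]
      exact congrArg (fun φ => g.eval₂ φ α) (RingHom.ext_int _ _)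
    have hmin : h.map (Int.castRingHom (ZMod (ringChar L))) = minpoly (ZMod (ringChar L)) α :=
      minpoly.eq_of_irreducible_of_monic hi ((e h).trans hα) (hm.map _)
    have hdvd := minpoly.dvd (ZMod (ringChar L)) α ((e f).trans hfα)
    rw [← hmin] at hdvd
    have hne : f.map (Int.castRingHom (ZMod (ringChar L))) ≠ 0 := fun h0 => by
      refine hf0 (Polynomial.ext fun i => ?_)
      have := congrArg (fun g => g.coeff i) h0
      simp only [coeff_map, coeff_zero] at this
      rcases hcoef i with h' | h' | h'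
      · simpa using h'
      all_goals simp [h'] at this
    have := natDegree_le_of_dvd hdvd hne
    rw [hm.natDegree_map] at this
    exact absurd (this.trans natDegree_map_le) (by omega)
  · haveI := Fact.mk Nat.prime_two
    haveI : CharP L 0 := hp ▸ ringChar.charP L
    haveI : CharZero L := CharP.charP_to_charZero L
    letI : Algebra ℚ L := (Rat.castHom L).toAlgebra
    have hi2 := hirr 2 Nat.prime_two (Or.inr ⟨hp, rfl⟩)
    have hiZ : Irreducible h := Polynomial.Monic.irreducible_of_irreducible_map _ h hm hi2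
    have hi : Irreducible (h.map (Int.castRingHom ℚ)) := (Polynomial.IsPrimitive.Int.irreducible_iff_irreducible_map_cast hm.isPrimitive).1 hiZ
    have e : ∀ g : ℤ[X], aeval α (g.map (Int.castRingHom ℚ)) = g.eval₂ (Int.castRingHom L) α := fun g => by
      rw [aeval_def, eval₂_map]
      exact congrArg (fun φ => g.eval₂ φ α) (RingHom.ext_int _ _)
    have hmin : h.map (Int.castRingHom ℚ) = minpoly ℚ α :=
      minpoly.eq_of_irreducible_of_monic hi ((e h).trans hα) (hm.map _)
    have hdvd := minpoly.dvd ℚ α ((e f).trans hfα)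
    rw [← hmin] at hdvd
    have hne : f.map (Int.castRingHom ℚ) ≠ 0 := (Polynomial.map_ne_zero_iff Int.cast_injective).2 hf0
    have := natDegree_le_of_dvd hdvd hne
    rw [hm.natDegree_map] at this
    exact absurd (this.trans natDegree_map_le) (by omega)

end Groth.Agent.KDim
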