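import Mathlib.LinearAlgebra.ExteriorAlgebra.Basic
import Mathlib.LinearAlgebra.ExteriorPower.Basic
import Mathlib.LinearAlgebra.CliffordAlgebra.Contraction
import Mathlib.LinearAlgebra.CliffordAlgebra.Fold
import Mathlib.LinearAlgebra.Basis.Basic

/-!
# A contraction for the complex `⋀^{k-|m|}` indexed by monomials `m`
-/

set_option autoImplicit false

universe u

open Finset

noncomputable section

namespace Groth.Agent.KDim

variable {R : Type u} [CommRing R] {M : Type u} [AddCommGroup M] [Module R M]

/-- The unit monomial. -/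
def e1 {r : ℕ} (i : Fin r) : Fin r → ℕ := Pi.single i 1

/-- The exponents below `i` vanish. -/
def Low {r : ℕ} (a : Fin r → ℕ) (i : Fin r) : Prop := ∀ l < i, a l = 0

variable {e : ℕ} (b : Module.Basis (Fin e) R M)

/-- Forget the coordinates below `i`. -/
def projB (i : ℕ) : M →ₗ[R] M := b.constr R fun l => if i ≤ (l : ℕ) then b l else 0

/-- The induced map on the exterior algebra. -/
def piA (i : ℕ) : ExteriorAlgebra R M →ₐ[R] ExteriorAlgebra R M := ExteriorAlgebra.map (projB b i)

/-- Contraction with the `l`-th coordinate. -/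
def cA (l : Fin e) : ExteriorAlgebra R M →ₗ[R] ExteriorAlgebra R M :=
  CliffordAlgebra.contractLeft (Q := (0 : QuadraticForm R M)) (b.coord l)

theorem projB_apply (i : ℕ) (l : Fin e) : projB b i (b l) = if i ≤ (l : ℕ) then b l else 0 :=
  b.constr_basis R _ l

theorem piA_ι (i : ℕ) (v : M) : piA b i (ExteriorAlgebra.ι R v) = ExteriorAlgebra.ι R (projB b i v) :=
  ExteriorAlgebra.map_apply_ι _ v

theorem piA_zero (x : ExteriorAlgebra R M) : piA b 0 x = x := by
  have h : projB b 0 = LinearMap.id := b.ext fun l => by simp [projB_apply]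
  rw [piA, h, ExteriorAlgebra.map_id]
  rfl

theorem piA_basis_mul (i : ℕ) (l : Fin e) (x : ExteriorAlgebra R M) :
    piA b i (ExteriorAlgebra.ι R (b l) * x) =
      if i ≤ (l : ℕ) then ExteriorAlgebra.ι R (b l) * piA b i x else 0 := by
  rw [map_mul, piA_ι, projB_apply]
  split_ifs <;> simp

theorem cA_ι_mul (l : Fin e) (v : M) (x : ExteriorAlgebra R M) :
    cA b l (ExteriorAlgebra.ι R v * x) = b.coord l v • x - ExteriorAlgebra.ι R v * cA b l x :=
  CliffordAlgebra.contractLeft_ι_mul (Q := (0 : QuadraticForm R M)) (b.coord l) v x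

theorem cA_algebraMap (l : Fin e) (c : R) : cA b l (algebraMap R _ c) = 0 :=
  CliffordAlgebra.contractLeft_algebraMap (Q := (0 : QuadraticForm R M)) (b.coord l) c

theorem cA_basis_mul (l j : Fin e) (x : ExteriorAlgebra R M) :
    cA b l (ExteriorAlgebra.ι R (b j) * x) =
      (if j = l then x else 0) - ExteriorAlgebra.ι R (b j) * cA b l x := by
  rw [cA_ι_mul, Module.Basis.coord_apply, Module.Basis.repr_self]
  rcases eq_or_ne j l with rfl | h
  · simp
  · simp [h, Finsupp.single_eq_of_ne (Ne.symm h)]

theorem projB_succ (i : Fin e) (v : M) : projB b i v = b.coord i v • b i + projB b (i + 1) v := by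
  have h : projB b i = (b.coord i).smulRight (b i) + projB b (i + 1) := b.ext fun l => by
    simp only [projB_apply, LinearMap.add_apply, LinearMap.smulRight_apply, Module.Basis.coord_apply,
      Module.Basis.repr_self]
    rcases lt_trichotomy (i : ℕ) l with hl | hl | hl
    · rw [if_pos hl.le, if_pos (by omega), Finsupp.single_eq_of_ne (Fin.ne_of_val_ne hl.ne), zero_smul, zero_add]
    · obtain rfl := Fin.ext hl
      rw [if_pos le_rfl, if_neg (by omega), Finsupp.single_eq_same, one_smul, add_zero]
    · rw [if_neg (by omega), if_neg (by omega), Finsupp.single_eq_of_ne (Fin.ne_of_val_ne hl.ne'), zero_smul, zero_add]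
  exact LinearMap.congr_fun h v

theorem coord_projB (i : Fin e) (v : M) : b.coord i (projB b i v) = b.coord i v := by
  have h : (b.coord i).comp (projB b i) = b.coord i := b.ext fun l => by
    simp only [LinearMap.comp_apply, projB_apply]
    split_ifs with hl
    · rfl
    · simp [Finsupp.single_eq_of_ne (show i ≠ l from fun h => hl (by rw [h]))]
  exact LinearMap.congr_fun h v

theorem piA_split (i : Fin e) (x : ExteriorAlgebra R M) :
    piA b i x = ExteriorAlgebra.ι R (b i) * cA b i (piA b i x) + piA b (i + 1) x := by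
  induction x using CliffordAlgebra.left_induction with
  | algebraMap c => simp [AlgHom.commutes, cA_algebraMap]
  | add x y hx hy =>
    simp only [map_add, mul_add]
    conv_lhs => rw [hx, hy]
    abel
  | ι_mul x v ih =>
    change piA b i (ExteriorAlgebra.ι R v * x) = ExteriorAlgebra.ι R (b i) *
      cA b i (piA b i (ExteriorAlgebra.ι R v * x)) + piA b (i + 1) (ExteriorAlgebra.ι R v * x)
    simp only [map_mul, piA_ι]
    rw [cA_ι_mul, coord_projB, projB_succ b i v]
    simp only [map_add, map_smul, add_mul, smul_mul_assoc, mul_sub, mul_add, mul_smul_comm, ← mul_assoc,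
      ExteriorAlgebra.ι_sq_zero, zero_mul, smul_zero, zero_add]
    have hanti : ExteriorAlgebra.ι R (b i) * ExteriorAlgebra.ι R (projB b (i + 1) v) =
        -(ExteriorAlgebra.ι R (projB b (i + 1) v) * ExteriorAlgebra.ι R (b i)) :=
      eq_neg_of_add_eq_zero_left (ExteriorAlgebra.ι_add_mul_swap _ _)
    rw [hanti, neg_mul, mul_assoc, show ExteriorAlgebra.ι R (b i) * cA b i (piA b i x) = piA b i x - piA b (i + 1) x from
      eq_sub_of_add_eq ih.symm, mul_sub]
    abel

/-- `⋀^{q+1}` contracts into `⋀^q`. -/
theorem cA_mem (l : Fin e) (q : ℕ) {x : ExteriorAlgebra R M} (hx : x ∈ ⋀[R]^(q + 1) M) :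
    cA b l x ∈ ⋀[R]^q M := by
  induction q generalizing x with
  | zero =>
    rw [zero_add, ExteriorAlgebra.exteriorPower, pow_one] at hx
    obtain ⟨v, rfl⟩ := hx
    rw [ExteriorAlgebra.exteriorPower, pow_zero, ← mul_one (ExteriorAlgebra.ι R v), cA_ι_mul,
      show (1 : ExteriorAlgebra R M) = algebraMap R _ 1 from (map_one _).symm, cA_algebraMap, mul_zero, sub_zero,
      map_one]
    exact Submodule.mem_one.2 ⟨b.coord l v, Algebra.algebraMap_eq_smul_one _⟩
  | succ q ih =>
    rw [ExteriorAlgebra.exteriorPower, pow_succ'] at hx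
    induction hx using Submodule.mul_induction_on' with
    | mem_mul_mem m hm n hn =>
      obtain ⟨v, rfl⟩ := hm
      rw [cA_ι_mul]
      refine Submodule.sub_mem _ (Submodule.smul_mem _ _ hn) ?_
      rw [ExteriorAlgebra.exteriorPower, pow_succ']
      exact Submodule.mul_mem_mul ⟨v, rfl⟩ (ih hn)
    | add x _ y _ hx hy => rw [map_add]; exact Submodule.add_mem _ hx hy

theorem piA_mem (i q : ℕ) {x : ExteriorAlgebra R M} (hx : x ∈ ⋀[R]^q M) : piA b i x ∈ ⋀[R]^q M := by
  have h : piA b i x ∈ (⋀[R]^q M).map (piA b i).toLinearMap := ⟨x, hx, rfl⟩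
  rw [ExteriorAlgebra.exteriorPower, Submodule.map_pow] at h
  refine SetLike.le_def.1 (pow_le_pow_left' ?_ q) h
  rintro _ ⟨_, ⟨v, rfl⟩, rfl⟩
  exact ⟨projB b i v, (piA_ι b i v).symm⟩

variable {r : ℕ} (hr : r ≤ e)

/-- The differential on monomial `a`, to monomial `c`. -/
def dmat (a c : Fin r → ℕ) : ExteriorAlgebra R M →ₗ[R] ExteriorAlgebra R M :=
  ∑ i : Fin r, if a = c + e1 i then LinearMap.mulLeft R (ExteriorAlgebra.ι R (b (Fin.castLE hr i))) else 0

open scoped Classical in
/-- The contraction from monomial `a` to monomial `c`. -/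
def hmat (a c : Fin r → ℕ) : ExteriorAlgebra R M →ₗ[R] ExteriorAlgebra R M :=
  ∑ i : Fin r, if c = a + e1 i ∧ Low a i then (cA b (Fin.castLE hr i)).comp (piA b i).toLinearMap else 0

theorem add_e1_cases {a c : Fin r → ℕ} {i l : Fin r} (h : a + e1 i = c + e1 l) (hil : i ≠ l) :
    1 ≤ a l ∧ 1 ≤ c i ∧ c = (a - e1 l) + e1 i := by
  have h1 := congrFun h l
  have h2 := congrFun h i
  simp only [Pi.add_apply, e1, Pi.single_eq_same, Pi.single_eq_of_ne hil, Pi.single_eq_of_ne (Ne.symm hil),
    add_zero] at h1 h2
  refine ⟨by omega, by omega, funext fun j => ?_⟩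
  have h3 := congrFun h j
  simp only [Pi.add_apply, Pi.sub_apply, e1] at h3 ⊢
  rcases eq_or_ne j l with rfl | hj
  · simp only [Pi.single_eq_same, Pi.single_eq_of_ne (Ne.symm hil)] at h3 ⊢
    omega
  · simp only [Pi.single_eq_of_ne hj] at h3 ⊢
    omega

theorem telescope (a : Fin r → ℕ) (x : ExteriorAlgebra R M) (j : ℕ) (hj : j ≤ r)
    (hz : ∀ i : Fin r, (i : ℕ) < j → a i = 0) :
    ∑ i ∈ univ.filter (fun i : Fin r => (i : ℕ) < j),
      ExteriorAlgebra.ι R (b (Fin.castLE hr i)) * cA b (Fin.castLE hr i) (piA b i x) = x - piA b j x := by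
  induction j with
  | zero => simp [piA_zero]
  | succ j ih =>
    rw [show univ.filter (fun i : Fin r => (i : ℕ) < j + 1) =
        insert ⟨j, hj⟩ (univ.filter fun i : Fin r => (i : ℕ) < j) by
      ext i; simp [Fin.ext_iff]; omega, sum_insert (by simp), ih (by omega) fun i hi => hz i (by omega)]
    have h := piA_split b (Fin.castLE hr ⟨j, hj⟩) x
    simp only [Fin.val_castLE] at h
    rw [show ExteriorAlgebra.ι R (b (Fin.castLE hr ⟨j, hj⟩)) * cA b (Fin.castLE hr ⟨j, hj⟩)
        (piA b (((⟨j, hj⟩ : Fin r)) : ℕ) x) = piA b j x - piA b (j + 1) x from eq_sub_of_add_eq h.symm]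
    abel

open scoped Classical in
/-- The contraction formula. -/
theorem homotopy (a c : Fin r → ℕ) (x : ExteriorAlgebra R M) (hx : (∀ i, a i = 0) → piA b r x = 0)
    (B : Finset (Fin r → ℕ)) (hB₁ : ∀ i : Fin r, Low a i → a + e1 i ∈ B)
    (hB₂ : ∀ l : Fin r, 1 ≤ a l → a - e1 l ∈ B) :
    ∑ m ∈ B, (dmat b hr m c (hmat b hr a m x) + hmat b hr m c (dmat b hr a m x)) = if a = c then x else 0 := by
  set t : Fin r → ExteriorAlgebra R M := fun i => ExteriorAlgebra.ι R (b (Fin.castLE hr i)) with ht
  set C : Fin r → ExteriorAlgebra R M → ExteriorAlgebra R M := fun i y => cA b (Fin.castLE hr i) (piA b i y) with hC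
  have hCz : ∀ i, C i 0 = 0 := fun i => by simp [hC]
  have hd : ∀ m c' y, dmat b hr m c' y = ∑ l, if m = c' + e1 l then t l * y else 0 := fun m c' y => by
    rw [dmat, LinearMap.sum_apply]
    exact sum_congr rfl fun l _ => by split_ifs <;> rfl
  have hh : ∀ m c' y, hmat b hr m c' y = ∑ i, if c' = m + e1 i ∧ Low m i then C i y else 0 := fun m c' y => by
    rw [hmat, LinearMap.sum_apply]
    exact sum_congr rfl fun i _ => by split_ifs <;> rfl
  have hsub : ∀ (m : Fin r → ℕ) (l : Fin r), a = m + e1 l ↔ 1 ≤ a l ∧ m = a - e1 l := fun m l => by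
    constructor
    · rintro rfl
      exact ⟨by simp [e1], funext fun j => by simp⟩
    · rintro ⟨h, rfl⟩
      refine funext fun j => ?_
      rcases eq_or_ne j l with rfl | hj
      · simp [e1]; omega
      · simp [e1, hj]
  have h1 : ∑ m ∈ B, dmat b hr m c (hmat b hr a m x) =
      ∑ i, ∑ l, if Low a i ∧ a + e1 i = c + e1 l then t l * C i x else 0 := by
    simp only [hh, hd, mul_sum]
    have : ∀ m, (∑ l, if m = c + e1 l then ∑ i, t l * (if m = a + e1 i ∧ Low a i then C i x else 0) else 0) =
        ∑ i, ∑ l, if (Low a i ∧ m = a + e1 i) ∧ m = c + e1 l then t l * C i x else 0 := fun m => by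
      rw [sum_comm (s := univ) (t := univ)]
      refine sum_congr rfl fun l _ => ?_
      split_ifs with hl
      · refine sum_congr rfl fun i _ => ?_
        rw [mul_ite, mul_zero]
        exact if_congr (by tauto) rfl rfl
      · rw [sum_eq_zero fun i _ => if_neg fun h => hl h.2]
    simp only [this]
    rw [sum_comm]
    refine sum_congr rfl fun i _ => ?_
    rw [sum_comm]
    refine sum_congr rfl fun l _ => ?_
    by_cases hi : Low a i
    · rw [sum_eq_single (a + e1 i) (fun m _ hm => if_neg fun h => hm h.1.2) (fun h => absurd (hB₁ i hi) h)]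
      exact if_congr (by tauto) rfl rfl
    · rw [sum_eq_zero fun m _ => if_neg fun h => hi h.1.1, if_neg fun h => hi h.1]
  have h2 : ∑ m ∈ B, hmat b hr m c (dmat b hr a m x) =
      ∑ i, ∑ l, if 1 ≤ a l ∧ Low (a - e1 l) i ∧ c = a - e1 l + e1 i then C i (t l * x) else 0 := by
    simp only [hh, hd]
    rw [sum_comm]
    refine sum_congr rfl fun i _ => ?_
    have hlin : ∀ (s : Finset (Fin r)) (f : Fin r → ExteriorAlgebra R M), C i (∑ l ∈ s, f l) = ∑ l ∈ s, C i (f l) :=
      fun s f => by simp [hC, map_sum]
    simp only [hlin]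
    have : ∀ m, (if c = m + e1 i ∧ Low m i then ∑ l, C i (if a = m + e1 l then t l * x else 0) else 0) =
        ∑ l, if (1 ≤ a l ∧ m = a - e1 l) ∧ c = m + e1 i ∧ Low m i then C i (t l * x) else 0 := fun m => by
      by_cases hm : c = m + e1 i ∧ Low m i
      · rw [if_pos hm]
        refine sum_congr rfl fun l _ => ?_
        by_cases hl : a = m + e1 l
        · rw [if_pos hl, if_pos ⟨(hsub m l).1 hl, hm⟩]
        · rw [if_neg hl, hCz, if_neg fun h => hl ((hsub m l).2 h.1)]
      · rw [if_neg hm, sum_eq_zero fun l _ => if_neg fun h => hm h.2]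
    simp only [this]
    rw [sum_comm]
    refine sum_congr rfl fun l _ => ?_
    by_cases hl : 1 ≤ a l
    · rw [sum_eq_single (a - e1 l) (fun m _ hm => if_neg fun h => hm h.1.2) (fun h => absurd (hB₂ l hl) h)]
      exact if_congr (by tauto) rfl rfl
    · rw [sum_eq_zero fun m _ => if_neg fun h => hl h.1.1, if_neg fun h => hl h.1]
  rw [sum_add_distrib, h1, h2, ← sum_add_distrib]
  simp only [← sum_add_distrib]
  have hoff : ∀ i l : Fin r, i ≠ l →
      ((if Low a i ∧ a + e1 i = c + e1 l then t l * C i x else 0) +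
        if 1 ≤ a l ∧ Low (a - e1 l) i ∧ c = a - e1 l + e1 i then C i (t l * x) else 0) = 0 := by
    intro i l hil
    have hCt : ∀ (_ : (i : ℕ) ≤ (l : ℕ)), C i (t l * x) = -(t l * C i x) := fun hle => by
      simp only [hC, ht]
      rw [piA_basis_mul, if_pos (by simpa using hle), cA_basis_mul,
        if_neg fun h => hil (Fin.castLE_injective hr h).symm, zero_sub]
    by_cases h2c : 1 ≤ a l ∧ Low (a - e1 l) i ∧ c = a - e1 l + e1 i
    · rw [if_pos h2c]
      obtain ⟨hl, hlow, hc⟩ := h2c
      by_cases hle : (i : ℕ) ≤ l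
      · have hlow' : Low a i := fun j hj => by
          have := hlow j hj
          have hjl : j ≠ l := fun h => by subst h; omega
          simpa [e1, hjl] using this
        have heq : a + e1 i = c + e1 l := by
          rw [hc, add_right_comm, show a - e1 l + e1 l = a from funext fun j => by
            rcases eq_or_ne j l with rfl | hj
            · simp [e1]; omega
            · simp [e1, hj]]
        rw [if_pos ⟨hlow', heq⟩, hCt hle, add_neg_cancel]
      · have : ¬ Low a i := fun h => by
          have := h l (by simpa using Nat.lt_of_not_le hle)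
          omega
        rw [if_neg fun h => this h.1, zero_add]
        simp only [hC, ht]
        rw [piA_basis_mul, if_neg (by simpa using hle), map_zero]
    · rw [if_neg h2c, add_zero, if_neg]
      rintro ⟨hlow, heq⟩
      obtain ⟨hal, -, hc⟩ := add_e1_cases heq hil
      exact h2c ⟨hal, fun j hj => by simp [hlow j hj], hc⟩
  have hdiag : ∀ i : Fin r, ((if Low a i ∧ a + e1 i = c + e1 i then t i * C i x else 0) +
        if 1 ≤ a i ∧ Low (a - e1 i) i ∧ c = a - e1 i + e1 i then C i (t i * x) else 0) =
      if a = c then (if Low a i then (if a i = 0 then t i * C i x else piA b i x) else 0) else 0 := by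
    intro i
    have hlow : Low (a - e1 i) i ↔ Low a i := forall₂_congr fun j hj => by
      simp [e1, hj.ne]
    rcases eq_or_ne a c with rfl | hac
    · rw [if_pos rfl]
      by_cases hl : Low a i
      · rw [if_pos ⟨hl, rfl⟩, if_pos hl]
        by_cases hz : a i = 0
        · rw [if_pos hz, if_neg fun h => by omega, add_zero]
        · rw [if_neg hz, if_pos ⟨by omega, hlow.2 hl, funext fun j => by
            rcases eq_or_ne j i with rfl | hj
            · simp [e1]; omega
            · simp [e1, hj]⟩]
          simp only [hC, ht]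
          rw [piA_basis_mul, if_pos (by simp), cA_basis_mul, if_pos rfl, add_sub_cancel]
      · rw [if_neg fun h => hl h.1, if_neg fun h => hl (hlow.1 h.2.1), if_neg hl, add_zero]
    · rw [if_neg hac, if_neg fun h => hac (add_right_cancel h.2), if_neg fun h => hac ?_, add_zero]
      rw [h.2.2]
      funext j
      rcases eq_or_ne j i with rfl | hj
      · simp [e1]; omega
      · simp [e1, hj]
  rw [show (∑ i : Fin r, ∑ l : Fin r, ((if Low a i ∧ a + e1 i = c + e1 l then t l * C i x else 0) +
        if 1 ≤ a l ∧ Low (a - e1 l) i ∧ c = a - e1 l + e1 i then C i (t l * x) else 0)) =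
      ∑ i : Fin r, if a = c then (if Low a i then (if a i = 0 then t i * C i x else piA b i x) else 0) else 0 from
    sum_congr rfl fun i _ => (sum_eq_single i (fun l _ hl => hoff i l hl.symm) (fun h => absurd (mem_univ i) h)).trans
      (hdiag i)]
  split_ifs with hac
  swap
  · simp
  by_cases hz : ∀ i, a i = 0
  · rw [sum_congr rfl fun i _ => show (if Low a i then (if a i = 0 then t i * C i x else piA b i x) else 0) = t i * C i x by
      rw [if_pos (show Low a i from fun j _ => hz j), if_pos (hz i)]]
    have := telescope b hr a x r le_rfl fun i _ => hz i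
    rw [show univ.filter (fun i : Fin r => (i : ℕ) < r) = univ from filter_true_of_mem fun i _ => i.2] at this
    exact this.trans (by rw [hx hz, sub_zero])
  · simp only [not_forall] at hz
    obtain ⟨i₀, hi₀, hmin⟩ := WellFounded.has_min (α := Fin r) wellFounded_lt {i | a i ≠ 0} hz
    have hlow₀ : Low a i₀ := fun l hl => by
      by_contra h
      exact hmin l h hl
    rw [← sum_filter_add_sum_filter_not univ (fun i : Fin r => (i : ℕ) < i₀)]
    rw [sum_congr rfl (g := fun i => t i * C i x) fun i hi => by
      simp only [mem_filter, mem_univ, true_and] at hi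
      have hil : i < i₀ := hi
      rw [if_pos (show Low a i from fun j hj => hlow₀ j (hj.trans hil)), if_pos (hlow₀ i hil)],
      telescope b hr a x i₀ i₀.2.le fun i hi => hlow₀ i hi,
      sum_eq_single i₀ (fun i hi hne => if_neg fun h => ?_) (fun h => absurd (by simp) h),
      if_pos hlow₀, if_neg hi₀, sub_add_cancel]
    simp only [mem_filter, mem_univ, true_and, not_lt] at hi
    exact hi₀ (h i₀ (lt_of_le_of_ne hi (Ne.symm hne)))

end Groth.Agent.KDim
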