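import Groth.Agent.KDim.Chart
import Groth.Agent.KDim.GoodPoly
import Mathlib.RingTheory.AdjoinRoot
import Mathlib.RingTheory.AlgebraTower

/-!
# Selecting few combinations in general position, after a finite free extension of scalars
-/

set_option autoImplicit false
set_option linter.style.haveILetI false
set_option linter.unusedSectionVars false
set_option maxHeartbeats 1000000

universe u

open scoped TensorProduct
open Module Submodule

noncomputable section

attribute [local instance 10000] Ring.toIntAlgebra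

namespace Groth.Agent.KDim

theorem exists_pow_gt {b : ℕ} (hb : 2 ≤ b) (m : ℕ) : ∃ A : ℕ, m * b ^ A < 2 ^ b ^ A ∧ b ^ A ≠ 0 := by
  have key : ∀ q, 5 ≤ q → q * q < 2 ^ q := fun q hq => by
    induction q, hq using Nat.le_induction with
    | base => norm_num
    | succ q hq ih => rw [pow_succ]; nlinarith
  refine ⟨m + 5, ?_, pow_ne_zero _ (by omega)⟩
  have h : m + 5 ≤ b ^ (m + 5) := (Nat.lt_pow_self (by omega)).le
  exact lt_of_le_of_lt (Nat.mul_le_mul_right _ (by omega : m ≤ b ^ (m + 5))) (key _ (by omega))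

namespace Chart

variable {e n₀ : ℕ} (c : Chart.{u} e n₀)

/-- The rank condition. -/
def Good {B : Type} [CommRing B] {n : ℕ} (M : Matrix (Fin n₀) (Fin n) B) : Prop :=
  ∀ p ∈ c.D 0, ∀ (σ : B →+* Lp p) (ρ : ℕ), ρ < n → c.rnk M p σ ≤ ρ → p ∈ c.D (e - ρ)

/-- The points at which the next step may fail. -/
def crit {B : Type} [CommRing B] {n : ℕ} (M : Matrix (Fin n₀) (Fin (n + 1)) B) : Set (PrimeSpectrum c.R) :=
  ⋃ ρ ∈ (Finset.range n : Set ℕ), (c.D 0 ∩ {p | ∃ σ, c.rnk M p σ ≤ ρ + 1}) \ c.D (e - ρ)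

theorem finite_crit {B : Type} [CommRing B] {n Q : ℕ} (bB : Basis (Fin Q) ℤ B)
    {M : Matrix (Fin n₀) (Fin (n + 1)) B} (hM : c.Good M) : (c.crit M).Finite := by
  refine Set.Finite.biUnion (Finset.finite_toSet _) fun ρ hρ => ?_
  have hρn : ρ < n := Finset.mem_range.1 hρ
  rcases lt_or_ge ρ e with he | he
  · have := c.fin (e - (ρ + 1)) _ (c.closed.inter (c.isClosed_rnk_le M bB (ρ + 1))) fun p hp => by
      obtain ⟨σ, hσ⟩ := hp.2
      exact hM p hp.1 σ (ρ + 1) (by omega) hσ
    rwa [show e - (ρ + 1) + 1 = e - ρ by omega] at this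
  · rw [show e - ρ = 0 by omega]
    exact Set.Finite.subset Set.finite_empty fun p hp => hp.2 hp.1.1

theorem good_one : c.Good (1 : Matrix (Fin n₀) (Fin n₀) ℤ) := by
  intro p hp σ ρ _ hρ
  have hvec : c.vec (1 : Matrix (Fin n₀) (Fin n₀) ℤ) p σ = fun l a => phi p (c.T a l) := by
    funext l a
    rw [Chart.vec, c.chi_tp, Finset.sum_eq_single l (fun k _ hk => by rw [Matrix.one_apply_ne hk, map_zero, mul_zero])
      (by simp), Matrix.one_apply_eq, map_one, mul_one]
  rw [Chart.rnk, hvec, c.span_top p, finrank_top, finrank_fin_fun] at hρ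
  rwa [show e - ρ = 0 by omega]

end Chart

variable {e n₀ : ℕ} {ι : Type*} [Finite ι] (c : ι → Chart.{u} e n₀)

theorem exists_avoid {κ : Type*} [Fintype κ] {b n : ℕ} (hb : 2 ≤ b) (L : κ → Type u) [∀ x, Field (L x)]
    (P : ∀ x, Polynomial (L x)) (hPd : ∀ x, (P x).natDegree ≤ n) :
    ∃ (A : ℕ) (h g : Polynomial ℤ), h.Monic ∧ h.natDegree = b ^ A ∧ ∀ x, ∀ α : L x,
      h.eval₂ (Int.castRingHom (L x)) α = 0 → P x ≠ 0 → (P x).eval (g.eval₂ (Int.castRingHom (L x)) α) ≠ 0 := by
  classical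
  -- the extension
  obtain ⟨A, hA, hq⟩ := exists_pow_gt hb (Fintype.card κ * n)
  set q := b ^ A with hqdef
  let Pr : Finset ℕ := insert 2 ((Finset.univ.image fun x : κ => ringChar (L x)).filter Nat.Prime)
  obtain ⟨h, hm, hdeg, hirr⟩ := exists_irreducible_int Pr (fun p hp => by
    rcases Finset.mem_insert.1 hp with rfl | hp
    exacts [Nat.prime_two, (Finset.mem_filter.1 hp).2]) hq
  have hirr' : ∀ x : κ, ∀ p : ℕ, p.Prime → (ringChar (L x) = p ∨ (ringChar (L x) = 0 ∧ p = 2)) →
      Irreducible (h.map (Int.castRingHom (ZMod p))) := fun x p hp hc => hirr p (by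
    rcases hc with hc | ⟨-, rfl⟩
    · exact Finset.mem_insert_of_mem (Finset.mem_filter.2 ⟨Finset.mem_image.2 ⟨x, Finset.mem_univ _, hc⟩, hp⟩)
    · exact Finset.mem_insert_self _ _)
  let gS : Finset (Fin q) → Polynomial ℤ := fun S => ∑ i ∈ S, Polynomial.X ^ (i : ℕ)
  let ev : ∀ x : κ, Polynomial ℤ → L x → L x := fun x f α => f.eval₂ (Int.castRingHom _) α
  let R₁ : ∀ x : κ, Finset (L x) := fun x => (h.map (Int.castRingHom (L x))).roots.toFinset
  let R₂ : ∀ x : κ, Finset (L x) := fun x => (P x).roots.toFinset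
  let bad : Finset (Finset (Fin q)) := Finset.univ.biUnion fun x : κ =>
    (R₁ x).biUnion fun α => (R₂ x).biUnion fun z => Finset.univ.filter fun S => ev x (gS S) α = z
  have hone : ∀ (x : κ), ∀ α ∈ R₁ x, ∀ z, (Finset.univ.filter fun S => ev x (gS S) α = z).card ≤ 1 := fun x α hα z => by
    refine Finset.card_le_one.2 fun S hS S' hS' => ?_
    rw [Finset.mem_filter] at hS hS'
    by_contra hne
    rw [Multiset.mem_toFinset, Polynomial.mem_roots (hm.map _).ne_zero, Polynomial.IsRoot, Polynomial.eval_map] at hα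
    have hcf : ∀ (T : Finset (Fin q)) (i : ℕ), (gS T).coeff i = if ∃ t ∈ T, (t : ℕ) = i then 1 else 0 := fun T i => by
      simp only [gS, Polynomial.finsetSum_coeff, Polynomial.coeff_X_pow]
      split_ifs with h
      · obtain ⟨t, ht, rfl⟩ := h
        rw [Finset.sum_eq_single t (fun k _ hk => if_neg fun h => hk (Fin.ext h.symm)) (fun h => absurd ht h), if_pos rfl]
      · exact Finset.sum_eq_zero fun k hk => if_neg fun h' => h ⟨k, hk, h'.symm⟩
    refine eval₂_ne_zero_of_root hm (hirr' x) (f := gS S - gS S') ?_ ?_ (fun i => ?_) hα ?_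
    · rw [hdeg]
      refine lt_of_le_of_lt (Polynomial.natDegree_le_iff_coeff_eq_zero.2 fun i hi => ?_)
        (show q - 1 < q by omega)
      rw [Polynomial.coeff_sub, hcf, hcf, if_neg fun ⟨t, _, ht⟩ => by omega, if_neg fun ⟨t, _, ht⟩ => by omega, sub_zero]
    · intro h0
      refine hne (Finset.ext fun t => ?_)
      have := congrArg (fun f => f.coeff (t : ℕ)) h0
      simp only [Polynomial.coeff_sub, hcf, Polynomial.coeff_zero] at this
      have hiff : ∀ T : Finset (Fin q), (∃ k ∈ T, (k : ℕ) = t) ↔ t ∈ T := fun T =>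
        ⟨fun ⟨k, hk, he⟩ => Fin.ext he ▸ hk, fun h => ⟨t, h, rfl⟩⟩
      simp only [hiff] at this
      split_ifs at this with h1 h2 <;> simp_all
    · rw [Polynomial.coeff_sub, hcf, hcf]
      split_ifs <;> simp
    · show ev x (gS S - gS S') α = 0
      simp only [ev, Polynomial.eval₂_sub]
      exact sub_eq_zero.2 (hS.2.trans hS'.2.symm)
  have hbad : bad.card < (Finset.univ : Finset (Finset (Fin q))).card := by
    rw [Finset.card_univ, Fintype.card_finset, Fintype.card_fin]
    refine lt_of_le_of_lt ?_ hA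
    refine Finset.card_biUnion_le.trans (((Finset.sum_le_card_nsmul _ _ (q * n) fun x _ => ?_)).trans
      (le_of_eq (by rw [Finset.card_univ, smul_eq_mul]; ring)))
    refine Finset.card_biUnion_le.trans ((Finset.sum_le_card_nsmul _ _ n fun α hα => ?_).trans ?_)
    · refine Finset.card_biUnion_le.trans ((Finset.sum_le_card_nsmul _ _ 1 fun z _ => hone x α hα z).trans ?_)
      rw [smul_eq_mul, mul_one]
      exact (Multiset.toFinset_card_le _).trans ((Polynomial.card_roots' _).trans (hPd x))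
    · rw [smul_eq_mul]
      exact Nat.mul_le_mul_right _ ((Multiset.toFinset_card_le _).trans ((Polynomial.card_roots' _).trans
        (le_of_eq ((hm.natDegree_map _).trans hdeg))))
  obtain ⟨S, -, hS⟩ := Finset.exists_mem_notMem_of_card_lt_card hbad
  refine ⟨A, h, gS S, hm, hdeg, fun x α hα hP h0 => hS (Finset.mem_biUnion.2 ⟨x, Finset.mem_univ _,
    Finset.mem_biUnion.2 ⟨α, ?_, Finset.mem_biUnion.2 ⟨ev x (gS S) α,
      Multiset.mem_toFinset.2 ((Polynomial.mem_roots hP).2 h0), Finset.mem_filter.2 ⟨Finset.mem_univ _, rfl⟩⟩⟩⟩)⟩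
  rw [Multiset.mem_toFinset, Polynomial.mem_roots (hm.map _).ne_zero, Polynomial.IsRoot, Polynomial.eval_map]
  exact hα

/-- The polynomial whose roots are the bad parameters. -/
def depPoly {L : Type*} [Field L] {n : ℕ} (v : Fin (n + 1) → L) : Polynomial L :=
  Polynomial.C (v (Fin.last n)) - ∑ i : Fin n, Polynomial.C (v i.castSucc) * Polynomial.X ^ ((i : ℕ) + 1)

theorem eq_zero_of_depPoly {L : Type*} [Field L] {n : ℕ} (v : Fin (n + 1) → L) (h : depPoly v = 0) : v = 0 := by
  funext i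
  refine Fin.lastCases ?_ (fun i => ?_) i
  · simpa [depPoly, Polynomial.coeff_C_mul, Polynomial.coeff_X_pow] using congrArg (fun f => f.coeff 0) h
  · have := congrArg (fun f => f.coeff ((i : ℕ) + 1)) h
    simp only [depPoly, Polynomial.coeff_sub, Polynomial.coeff_C_succ, Polynomial.finsetSum_coeff,
      Polynomial.coeff_C_mul, Polynomial.coeff_X_pow, Polynomial.coeff_zero] at this
    rw [Finset.sum_eq_single i (fun k _ hk => by
      rw [if_neg (fun h => hk (Fin.ext (by omega))), mul_zero]) (by simp), if_pos rfl, mul_one] at this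
    simpa using this

theorem natDegree_depPoly {L : Type*} [Field L] {n : ℕ} (v : Fin (n + 1) → L) : (depPoly v).natDegree ≤ n := by
  refine (Polynomial.natDegree_sub_le _ _).trans (max_le (by rw [Polynomial.natDegree_C]; omega) ?_)
  exact Polynomial.natDegree_sum_le_of_forall_le _ _ fun i _ =>
    (Polynomial.natDegree_C_mul_X_pow_le _ _).trans i.2

theorem step_rel {L : Type*} [Field L] {e n : ℕ} {γ : L} (w : Fin (n + 1) → Fin e → L) (w' : Fin n → Fin e → L)
    (hrel : ∀ i : Fin n, w' i = w i.castSucc + γ ^ ((i : ℕ) + 1) • w (Fin.last n)) :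
    finrank L ↥(span L (Set.range w)) ≤ finrank L ↥(span L (Set.range w')) + 1 ∧
      ∀ v : Fin (n + 1) → L, ∑ i, v i • w i = 0 → (depPoly v).eval γ ≠ 0 →
        finrank L ↥(span L (Set.range w)) ≤ finrank L ↥(span L (Set.range w')) := by
  refine ⟨?_, fun v hv hev => ?_⟩
  · have hsub : span L (Set.range w) ≤ span L (Set.range w') ⊔ (L ∙ w (Fin.last n)) := by
      refine span_le.2 (Set.range_subset_iff.2 fun i => ?_)
      refine Fin.lastCases ?_ (fun i => ?_) i
      · exact mem_sup_right (mem_span_singleton_self _)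
      · rw [show w i.castSucc = w' i - γ ^ ((i : ℕ) + 1) • w (Fin.last n) by rw [hrel]; abel]
        exact sub_mem (mem_sup_left (subset_span ⟨i, rfl⟩))
          (mem_sup_right (smul_mem _ _ (mem_span_singleton_self _)))
    have h1 : finrank L ↥(L ∙ w (Fin.last n)) ≤ 1 := (finrank_span_le_card _).trans (by simp)
    have := (finrank_mono hsub).trans (Submodule.finrank_add_le_finrank_add_finrank _ _)
    omega
  · have hsum : (depPoly v).eval γ • w (Fin.last n) = -∑ i : Fin n, v i.castSucc • w' i := by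
      rw [Fin.sum_univ_castSucc] at hv
      simp only [depPoly, Polynomial.eval_sub, Polynomial.eval_C, Polynomial.eval_finsetSum, Polynomial.eval_mul,
        Polynomial.eval_pow, Polynomial.eval_X, hrel, smul_add, Finset.sum_add_distrib, sub_smul, Finset.sum_smul,
        smul_smul]
      rw [show ∑ i : Fin n, v i.castSucc • w i.castSucc = -(v (Fin.last n) • w (Fin.last n)) from
        eq_neg_of_add_eq_zero_left hv]
      abel
    have hlast : w (Fin.last n) ∈ span L (Set.range w') := by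
      rw [← one_smul L (w (Fin.last n)), ← inv_mul_cancel₀ hev, mul_smul, hsum]
      exact smul_mem _ _ (neg_mem (sum_mem fun i _ => smul_mem _ _ (subset_span ⟨i, rfl⟩)))
    refine finrank_mono (span_le.2 (Set.range_subset_iff.2 fun i => ?_))
    refine Fin.lastCases hlast (fun i => ?_) i
    rw [show w i.castSucc = w' i - γ ^ ((i : ℕ) + 1) • w (Fin.last n) by rw [hrel]; abel]
    exact sub_mem (subset_span ⟨i, rfl⟩) (smul_mem _ _ hlast)

theorem step {B : Type} [CommRing B] {Q n b : ℕ} (hb : 2 ≤ b) (hQ : Q ≠ 0) (bB : Basis (Fin Q) ℤ B)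
    (M : Matrix (Fin n₀) (Fin (n + 1)) B) (hM : ∀ j, (c j).Good M) :
    ∃ (A : ℕ) (B' : Type) (_ : CommRing B') (_ : Basis (Fin (Q * b ^ A)) ℤ B') (M' : Matrix (Fin n₀) (Fin n) B'),
      ∀ j, (c j).Good M' := by
  classical
  haveI : Nontrivial B := nontrivial_of_ne (bB ⟨0, Nat.pos_of_ne_zero hQ⟩) 0 (bB.ne_zero _)
  let Pair := Σ j, Σ p : ↥((c j).crit M), (B →+* Lp p.1)
  haveI : ∀ j, Finite ↥((c j).crit M) := fun j => ((c j).finite_crit bB (hM j)).to_subtype
  haveI : ∀ j (p : ↥((c j).crit M)), Finite (B →+* Lp p.1) := fun j p => finite_homs bB _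
  haveI : Finite Pair := inferInstanceAs (Finite (Σ j, Σ p : ↥((c j).crit M), (B →+* Lp p.1)))
  letI := Fintype.ofFinite Pair
  -- a dependence among the combined vectors
  have hker : ∀ x : Pair, ∃ v : Fin (n + 1) → Lp x.2.1.1,
      ((c x.1).rnk M x.2.1.1 x.2.2 < n + 1 → v ≠ 0) ∧ ∑ i, v i • (c x.1).vec M x.2.1.1 x.2.2 i = 0 := fun x => by
    by_cases hl : (c x.1).rnk M x.2.1.1 x.2.2 < n + 1
    · have hnli : ¬ LinearIndependent (Lp x.2.1.1) ((c x.1).vec M x.2.1.1 x.2.2) := fun h =>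
        hl.ne ((finrank_span_eq_card h).trans (Fintype.card_fin _))
      obtain ⟨v, hv, i, hi⟩ := Fintype.not_linearIndependent_iff.1 hnli
      exact ⟨v, fun _ h0 => hi (congrFun h0 i), hv⟩
    · exact ⟨0, fun h => absurd h hl, by simp⟩
  choose v hv0 hv using hker
  let P : ∀ x : Pair, Polynomial (Lp x.2.1.1) := fun x => depPoly (v x)
  have hP0 : ∀ x : Pair, P x = 0 → v x = 0 := fun x => eq_zero_of_depPoly _
  have hPd : ∀ x : Pair, (P x).natDegree ≤ n := fun x => natDegree_depPoly _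
  obtain ⟨A, h, g, hm, hdeg, hg⟩ := exists_avoid hb (fun x : Pair => Lp x.2.1.1) P hPd
  -- the new algebra
  let hB := h.map (algebraMap ℤ B)
  have hmB : hB.Monic := hm.map _
  let bB' := (bB.smulTower (AdjoinRoot.powerBasis' hmB).basis).reindex
    ((Equiv.prodCongr (Equiv.refl _) (finCongr (by
      show (AdjoinRoot.powerBasis' hmB).dim = b ^ A
      rw [AdjoinRoot.powerBasis'_dim, hm.natDegree_map, hdeg]))).trans finProdFinEquiv)
  let θ := AdjoinRoot.root hB
  let γ : AdjoinRoot hB := g.eval₂ (Int.castRingHom _) θ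
  let of' : B →+* AdjoinRoot hB := AdjoinRoot.of hB
  let M' : Matrix (Fin n₀) (Fin n) (AdjoinRoot hB) :=
    fun l i => of' (M l i.castSucc) + γ ^ ((i : ℕ) + 1) * of' (M l (Fin.last n))
  refine ⟨A, AdjoinRoot hB, inferInstance, bB', M', fun j p hp σ' ρ hρ hle => ?_⟩
  let σ : B →+* Lp p := σ'.comp of'
  have hrel : ∀ i : Fin n, (c j).vec M' p σ' i =
      (c j).vec M p σ i.castSucc + σ' γ ^ ((i : ℕ) + 1) • (c j).vec M p σ (Fin.last n) := fun i => by
    funext a
    simp only [Chart.vec, Chart.chi_tp, Pi.add_apply, Pi.smul_apply, smul_eq_mul, Finset.mul_sum,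
      ← Finset.sum_add_distrib]
    refine Finset.sum_congr rfl fun l _ => ?_
    simp only [M', map_add, map_mul, map_pow, σ, RingHom.comp_apply]
    ring
  obtain ⟨h1, h2⟩ := step_rel _ _ hrel
  have hsucc : (c j).rnk M p σ ≤ ρ + 1 := h1.trans (Nat.add_le_add_right hle 1)
  rcases Nat.lt_or_ge ρ ((c j).rnk M p σ) with hgt | hge
  swap
  · exact hM j p hp σ ρ (by omega) hge
  by_contra hnD
  have hcrit : p ∈ (c j).crit M := Set.mem_iUnion₂.2 ⟨ρ, Finset.mem_range.2 hρ, ⟨hp, σ, hsucc⟩, hnD⟩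
  let x : Pair := ⟨j, ⟨p, hcrit⟩, σ⟩
  have hα : h.eval₂ (Int.castRingHom (Lp p)) (σ' θ) = 0 := by
    rw [← RingHom.ext_int ((σ'.comp of').comp (algebraMap ℤ B)) (Int.castRingHom (Lp p)), RingHom.comp_assoc,
      ← Polynomial.hom_eval₂, ← Polynomial.eval₂_map, AdjoinRoot.eval₂_root, map_zero]
  have hγ : σ' γ = g.eval₂ (Int.castRingHom (Lp p)) (σ' θ) := by
    show σ' (g.eval₂ (Int.castRingHom _) θ) = _
    rw [Polynomial.hom_eval₂, RingHom.ext_int (σ'.comp (Int.castRingHom _)) (Int.castRingHom (Lp p))]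
  have hPne : P x ≠ 0 := fun h0 => hv0 x (by show (c j).rnk M p σ < n + 1; omega) (hP0 x h0)
  exact absurd ((h2 (v x) (hv x) (hγ ▸ hg x (σ' θ) hα hPne)).trans hle) (Nat.not_le.2 hgt)

theorem exists_good {b : ℕ} (hb : 2 ≤ b) {r : ℕ} (hr : r ≤ n₀) :
    ∃ (A : ℕ) (B : Type) (_ : CommRing B) (_ : Basis (Fin (b ^ A)) ℤ B) (M : Matrix (Fin n₀) (Fin r) B),
      ∀ j, (c j).Good M := by
  refine Nat.decreasingInduction (motive := fun m _ => ∃ (A : ℕ) (B : Type) (_ : CommRing B)
    (_ : Basis (Fin (b ^ A)) ℤ B) (M : Matrix (Fin n₀) (Fin m) B), ∀ j, (c j).Good M) (fun m _ ih => ?_) ?_ hr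
  · obtain ⟨A, B, _, bB, M, hM⟩ := ih
    obtain ⟨A', B', _, bB', M', hM'⟩ := step c hb (pow_ne_zero _ (by omega)) bB M hM
    exact ⟨A + A', B', _, bB'.reindex (finCongr (pow_add b A A').symm), M', hM'⟩
  · exact ⟨0, ℤ, inferInstance, (Basis.singleton (Fin 1) ℤ).reindex (finCongr (pow_zero b).symm), 1,
      fun j => (c j).good_one⟩

theorem exists_det {r s : ℕ} {B : Type} [CommRing B] {Q : ℕ} (bB : Basis (Fin Q) ℤ B)
    (c : Chart.{u} (r + s) n₀) (M : Matrix (Fin n₀) (Fin r) B) (hM : c.Good M) (p : PrimeSpectrum c.R)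
    (hp : p ∈ c.D 0) (hnD : p ∉ c.D (s + 1)) :
    ∃ t, t ∉ p.asIdeal ∧ ∃ W : Matrix (Fin (r + s)) (Fin (r + s)) (c.R ⊗[ℤ] B),
      (∀ a i, W a (Fin.castAdd s i) = c.tp M a i) ∧ W.det ∣ algebraMap c.R (c.R ⊗[ℤ] B) t := by
  classical
  haveI := finite_homs bB (Lp p)
  letI := Fintype.ofFinite (B →+* Lp p)
  have hind : ∀ σ, LinearIndependent (Lp p) (c.vec M p σ) := fun σ => by
    by_contra h
    rw [linearIndependent_iff_card_eq_finrank_span, Fintype.card_fin] at h
    have hle : Set.finrank (Lp p) (Set.range (c.vec M p σ)) ≤ r :=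
      (finrank_range_le_card _).trans (le_of_eq (Fintype.card_fin r))
    have hlt : c.rnk M p σ < r := lt_of_le_of_ne hle (Ne.symm h)
    exact hnD (c.anti_le (by omega) (hM p hp σ (c.rnk M p σ) hlt le_rfl))
  choose J hJ using fun σ => exists_completion _ (hind σ)
  let K : (B →+* Lp p) → Ideal (c.R ⊗[ℤ] B) := fun σ => RingHom.ker (chi p σ)
  haveI := isIntegral_base (R := c.R) bB
  have hne : ∀ σ σ' : B →+* Lp p, K σ' ≠ K σ → ∃ x, x ∈ K σ' ∧ x ∉ K σ := fun σ σ' hKK => by
    by_contra hcon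
    simp only [not_exists, not_and, not_not] at hcon
    haveI : (K σ').IsPrime := RingHom.ker_isPrime _
    have hlt : K σ' < K σ := lt_of_le_of_ne hcon hKK
    have hcm : ∀ τ, (K τ).comap (algebraMap c.R (c.R ⊗[ℤ] B)) = p.asIdeal := fun τ => Ideal.ext fun a => by
      rw [Ideal.mem_comap, RingHom.mem_ker, chi_algebraMap, phi_eq_zero]
    exact absurd (hcm σ' ▸ hcm σ ▸ Ideal.IsIntegral.comap_lt_comap hlt) (lt_irrefl _)
  choose x hx hx' using hne
  let kers := Finset.univ.image K
  let pick : ↥kers → (B →+* Lp p) := fun k => (Finset.mem_image.1 k.2).choose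
  have hpick : ∀ k : ↥kers, K (pick k) = k.1 := fun k => (Finset.mem_image.1 k.2).choose_spec.2
  let ε : ↥kers → c.R ⊗[ℤ] B := fun k =>
    ∏ σ', if h : K σ' = K (pick k) then 1 else x (pick k) σ' h
  have hε0 : ∀ (k : ↥kers) σ, K σ = k.1 → chi p σ (ε k) ≠ 0 := fun k σ hσ => by
    rw [map_prod, Finset.prod_ne_zero_iff]
    intro σ' _
    split_ifs with h
    · rw [map_one]; exact one_ne_zero
    · exact fun h0 => hx' (pick k) σ' h ((hpick k).symm ▸ hσ ▸ RingHom.mem_ker.2 h0)
  have hε1 : ∀ (k : ↥kers) σ, K σ ≠ k.1 → chi p σ (ε k) = 0 := fun k σ hσ => by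
    rw [map_prod]
    refine Finset.prod_eq_zero (Finset.mem_univ σ) ?_
    rw [dif_neg (fun h => hσ (h.trans (hpick k)))]
    exact hx (pick k) σ _
  let W : Matrix (Fin (r + s)) (Fin (r + s)) (c.R ⊗[ℤ] B) := Matrix.of fun a col =>
    Fin.addCases (fun i => c.tp M a i) (fun i => ∑ k : ↥kers, if J (pick k) i = a then ε k else 0) col
  have hdetW : ∀ σ : B →+* Lp p, chi p σ W.det ≠ 0 := fun σ => by
    let k : ↥kers := ⟨K σ, Finset.mem_image.2 ⟨σ, Finset.mem_univ _, rfl⟩⟩
    let τ := pick k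
    intro h0
    have h0' : chi p τ W.det = 0 := by
      have h1 : W.det ∈ K σ := RingHom.mem_ker.2 h0
      rw [show K σ = K τ from (hpick k).symm] at h1
      exact RingHom.mem_ker.1 h1
    have hW : (chi p τ).mapMatrix W = (Matrix.of fun a col =>
        Fin.append (c.vec M p τ) (fun i => Pi.single (J τ i) (1 : Lp p)) col a) *
          Matrix.diagonal (Fin.append (fun _ : Fin r => (1 : Lp p)) fun _ : Fin s => chi p τ (ε k)) := by
      refine Matrix.ext fun a col => ?_
      rw [Matrix.mul_diagonal]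
      refine Fin.addCases (fun i => ?_) (fun i => ?_) col
      · simp [W, Chart.vec]
      · simp only [W, RingHom.mapMatrix_apply, Matrix.map_apply, Matrix.of_apply, Fin.addCases_right, Fin.append_right,
          map_sum]
        rw [Finset.sum_eq_single k (fun k' _ hk' => by
          split_ifs
          · exact hε1 k' τ (fun h => hk' (Subtype.ext ((h.symm.trans (hpick k)))))
          · exact map_zero _) (by simp)]
        rw [Pi.single_apply]
        split_ifs with h h' h'
        · rw [one_mul]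
        · exact absurd h.symm h'
        · exact absurd h'.symm h
        · rw [map_zero, zero_mul]
    rw [RingHom.map_det, hW, Matrix.det_mul, Matrix.det_diagonal, mul_eq_zero] at h0'
    rcases h0' with h | h
    · exact hJ τ h
    · rw [Finset.prod_eq_zero_iff] at h
      obtain ⟨i, -, hi⟩ := h
      revert hi
      refine Fin.addCases (fun i hi => ?_) (fun i hi => ?_) i
      · simp at hi
      · rw [Fin.append_right] at hi
        exact hε0 k τ (hpick k) hi
  obtain ⟨t, ht, htI⟩ := exists_scalar bB p (Ideal.span {W.det})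
    fun σ => ⟨W.det, Ideal.mem_span_singleton_self _, hdetW σ⟩
  exact ⟨t, ht, W, fun a i => by simp [W], Ideal.mem_span_singleton.1 htI⟩

end Groth.Agent.KDim
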