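import Groth.Agent.KDim.Contract
import Groth.Agent.KDim.Class
import Groth.Agent.KDim.Select
import Groth.Agent.KDim.Deep
import Groth.Prelude.Def_ProjUP
import Groth.Agent.QCoh.Stalk

/-!
# Complexes with support in deep points
-/

set_option autoImplicit false
set_option linter.style.haveILetI false
set_option linter.unusedSectionVars false
set_option backward.isDefEq.respectTransparency false
set_option backward.isDefEq.respectTransparency.types false
set_option maxHeartbeats 1000000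

universe v u

open CategoryTheory CategoryTheory.Limits AlgebraicGeometry TopologicalSpace Opposite
open scoped TensorProduct

attribute [-instance] CategoryTheory.catToReflQuiver
attribute [local instance 10000] Ring.toIntAlgebra

noncomputable section

namespace Groth.Agent.KDim

open Groth.Agent ExtPowSh

theorem finite_critical_comap {T S : Type*} [TopologicalSpace T] [TopologicalSpace S] [NoetherianSpace S]
    [QuasiSober S] [T0Space S] {f : S → T} (hf : Continuous f) (hinj : Function.Injective f) {Z : Set T} {k : ℕ}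
    {F : Set S} (hF : IsClosed F) (hd : ∀ x ∈ F, Deep Z k (f x)) :
    {x | x ∈ F ∧ ¬ Deep Z (k + 1) (f x)}.Finite := by
  classical
  obtain ⟨C₀, hfin, hcl, hirr, hun⟩ := NoetherianSpace.exists_finite_set_isClosed_irreducible hF
  have hgen : ∀ C : Set S, IsIrreducible C → IsClosed C → C ⊆ F →
      {x | x ∈ C ∧ ¬ Deep Z (k + 1) (f x)}.Subsingleton := by
    intro C hirr hcl hCF x hx y hy
    obtain ⟨g, hg⟩ := QuasiSober.sober hirr hcl
    have key : ∀ z ∈ {x | x ∈ C ∧ ¬ Deep Z (k + 1) (f x)}, z = g := fun z hz => by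
      by_contra hne
      exact hz.2 ⟨(hd z (hCF hz.1)).mem, f g, fun h => hne (hinj h).symm, (hg.specializes hz.1).map hf, hd g (hCF hg.mem)⟩
    rw [key x hx, key y hy]
  have hsub : ∀ C ∈ C₀, C ⊆ F := fun C hC => hun ▸ Set.subset_sUnion_of_mem hC
  refine (hfin.biUnion (t := fun C => {x | x ∈ C ∧ ¬ Deep Z (k + 1) (f x) ∧ C ∈ C₀}) fun C hC => ?_).subset fun x hx => ?_
  · exact ((hgen C (hirr C hC) (hcl C hC) (hsub C hC)).anti fun x hx => ⟨hx.1, hx.2.1⟩).finite
  · obtain ⟨C, hC, hxC⟩ := Set.mem_sUnion.1 (hun ▸ hx.1)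
    exact Set.mem_iUnion₂.2 ⟨C, hC, hxC, hx.2, hC⟩

variable {X : Scheme.{u}} {G : X.Modules}

theorem span_secAt (hG : Coh.IsQCoh G) {n₀ : ℕ} {t : Fin n₀ → Sec G ⊤} (ht : ProjUP.GeneratedBy G t)
    {V : X.Opens} (hV : IsAffineOpen V) :
    Submodule.span Γ(X, V) (Set.range fun l => secAt G (t l) V) = ⊤ := by
  refine eq_top_iff.2 fun z _ => ?_
  set N := Submodule.span Γ(X, V) (Set.range fun l => secAt G (t l) V) with hN
  let J : Ideal Γ(X, V) := N.comap (LinearMap.toSpanSingleton Γ(X, V) (Sec G V) z)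
  suffices hJ : J = ⊤ by
    have h1 : (1 : Γ(X, V)) • z ∈ N := (eq_top_iff.1 hJ) Submodule.mem_top
    rwa [one_smul] at h1
  by_contra hJ
  obtain ⟨q, hq, hle⟩ := Ideal.exists_le_maximal J hJ
  let x : X := hV.fromSpec ⟨q, hq.isPrime⟩
  have hx : x ∈ V := hV.range_fromSpec.subset ⟨_, rfl⟩
  have hpr : (hV.primeIdealOf ⟨x, hx⟩).asIdeal = q := congrArg PrimeSpectrum.asIdeal
    (hV.fromSpec.isOpenEmbedding.injective (hV.fromSpec_primeIdealOf ⟨x, hx⟩))
  letI := QCoh.stalkAlg (X := X) hx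
  letI := QCoh.stalkModule G hx
  haveI := QCoh.isScalarTower_stalk G hx
  haveI := QCoh.isLocalization_stalk' hV hx
  haveI := QCoh.isLocalizedModule_germLin hG hV hx
  have hmem : QCoh.germLin G hx z ∈ Submodule.localized' (X.presheaf.stalk x)
      (hV.primeIdealOf ⟨x, hx⟩).asIdeal.primeCompl (QCoh.germLin G hx) N := by
    rw [hN, Submodule.localized'_span, ← Set.range_comp]
    have hr : (⇑(QCoh.germLin G hx) ∘ fun l => secAt G (t l) V) =
        fun l => (G.presheaf.germ ⊤ x trivial).hom (t l) :=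
      funext fun l => G.presheaf.germ_res_apply (homOfLE (le_top : V ≤ ⊤)) x hx (t l)
    rw [hr, ht x]
    trivial
  obtain ⟨m, hm, s, hs⟩ := (Submodule.mem_localized' _ _ _ _ _).1 hmem
  rw [IsLocalizedModule.mk'_eq_iff] at hs
  obtain ⟨c, hc⟩ := IsLocalizedModule.exists_of_eq (S := (hV.primeIdealOf ⟨x, hx⟩).asIdeal.primeCompl)
    (f := QCoh.germLin G hx) (hs.trans ((QCoh.germLin G hx).map_smul s.1 z).symm)
  have hcs : (c * s).1 ∈ J := by
    show ((c * s).1) • z ∈ N
    rw [Submonoid.coe_mul, mul_smul]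
    exact hc ▸ Submodule.smul_mem N c.1 hm
  exact (c * s).2 (SetLike.ext_iff.1 hpr _ |>.2 (hle hcs))

/-- A frame on an affine open. -/
structure Frame (G : X.Modules) (e : ℕ) where
  V : X.Opens
  hV : IsAffineOpen V
  b : Fin e → Γ(G, V)
  hb : ∀ (W : X.Opens) (h : W ≤ V), Function.Bijective fun c : Fin e → Γ(X, W) => ∑ i, c i • AModX.res G h (b i)

theorem exists_frame {e : ℕ} (hG : FlatMod.IsFinLocFreeOfRank e G) (x : X) : ∃ F : Frame G e, x ∈ F.V := by
  obtain ⟨U₀, hx, ⟨e₀⟩⟩ := hG x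
  obtain ⟨b₀, hb₀⟩ := TopDiff.exists_bases e₀
  obtain ⟨V, hV, hxV, hle⟩ := exists_isAffineOpen_mem_and_subset (U := U₀) (x := x) hx
  refine ⟨⟨V, hV, fun i => AModX.res G hle (b₀ i), fun W h => ?_⟩, hxV⟩
  have hres : ∀ i, AModX.res G h (AModX.res G hle (b₀ i)) = AModX.res G (h.trans hle) (b₀ i) := fun i =>
    (G.val.map_comp_apply (homOfLE hle).op (homOfLE h).op (b₀ i)).symm
  simp only [hres]
  exact hb₀ W (h.trans hle)

namespace Frame

variable {e : ℕ} (F : Frame G e)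

/-- The basis of sections over a smaller open. -/
def basis {W : X.Opens} (h : W ≤ F.V) : Module.Basis (Fin e) Γ(X, W) (Sec G W) :=
  (TopDiff.basis_of_unique (R := Γ(X, W)) (fun j => AModX.res G h (F.b j)) (F.hb W h)).choose

theorem basis_apply {W : X.Opens} (h : W ≤ F.V) (a : Fin e) : F.basis h a = resL G h (F.b a) :=
  congrFun (TopDiff.basis_of_unique (R := Γ(X, W)) (fun j => AModX.res G h (F.b j)) (F.hb W h)).choose_spec a

variable {n₀ : ℕ} (t : Fin n₀ → Sec G ⊤)

/-- The coordinates of the sections. -/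
def coord : Matrix (Fin e) (Fin n₀) Γ(X, F.V) := fun a l => (F.basis le_rfl).repr (secAt G (t l) F.V) a

theorem secAt_eq {W : X.Opens} (h : W ≤ F.V) (l : Fin n₀) :
    secAt G (t l) W = ∑ a, (X.presheaf.map (homOfLE h).op).hom (F.coord t a l) • F.basis h a := by
  have hb : ∀ a, resL G h (F.basis le_rfl a) = F.basis h a := fun a => by
    rw [basis_apply, basis_apply]
    exact (G.val.map_comp_apply (homOfLE le_rfl).op (homOfLE h).op (F.b a)).symm
  conv_lhs => rw [← resL_secAt G (t l) h, ← (F.basis le_rfl).sum_repr (secAt G (t l) F.V), map_sum]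
  refine Finset.sum_congr rfl fun a _ => ?_
  rw [LinearMap.map_smulₛₗ, hb]
  rfl

variable [IsNoetherian X] (hG : Coh.IsQCoh G) (ht : ProjUP.GeneratedBy G t) {Z : Set X} (hZ : IsClosed Z)

/-- The chart of a frame. -/
def chart : Chart.{u} e n₀ where
  R := Γ(X, F.V)
  T := F.coord t
  D i := {p | Deep Z i (F.hV.fromSpec p)}
  closed := hZ.preimage F.hV.fromSpec.continuous
  anti i p hp := Deep.mono hp
  fin i S hS hsub := by
    haveI : IsNoetherianRing Γ(X, F.V) := IsLocallyNoetherian.component_noetherian ⟨F.V, F.hV⟩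
    exact finite_critical_comap (S := PrimeSpectrum Γ(X, F.V)) (f := fun p => F.hV.fromSpec p)
      F.hV.fromSpec.continuous F.hV.fromSpec.isOpenEmbedding.injective hS hsub
  span_top p := by
    classical
    rw [eq_top_iff, ← (Pi.basisFun (Lp p) (Fin e)).span_eq, Submodule.span_le]
    rintro _ ⟨a, rfl⟩
    let Φ : Sec G F.V →ₛₗ[phi p] (Fin e → Lp p) :=
      { toFun := fun z i => phi p ((F.basis le_rfl).repr z i)
        map_add' := fun z w => funext fun i => by simp
        map_smul' := fun c z => funext fun i => by simp [Algebra.smul_def] }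
    have hval : Φ (F.basis le_rfl a) = Pi.basisFun (Lp p) (Fin e) a := funext fun i => by
      show phi p ((F.basis le_rfl).repr (F.basis le_rfl a) i) = _
      rw [Module.Basis.repr_self, Pi.basisFun_apply, Finsupp.single_apply, Pi.single_apply]
      rcases eq_or_ne a i with rfl | h
      · simp
      · simp [h, Ne.symm h]
    rw [SetLike.mem_coe, ← hval]
    have hmem : ∀ z ∈ Submodule.span Γ(X, F.V) (Set.range fun l => secAt G (t l) F.V),
        Φ z ∈ Submodule.span (Lp p) (Set.range fun l a => phi p (F.coord t a l)) := by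
      intro z hz
      induction hz using Submodule.span_induction with
      | mem _ h => obtain ⟨l, rfl⟩ := h; exact Submodule.subset_span ⟨l, rfl⟩
      | zero => rw [map_zero]; exact Submodule.zero_mem _
      | add a b _ _ ha hb => rw [map_add]; exact Submodule.add_mem _ ha hb
      | smul c a _ ha => rw [LinearMap.map_smulₛₗ]; exact Submodule.smul_mem _ _ ha
    exact hmem _ (by rw [span_secAt hG ht F.hV]; trivial)

end Frame

theorem exists_basis_of_matrix {R R' : Type u} [CommRing R] [CommRing R'] (ρ : R →+* R') {M' : Type u} [AddCommGroup M']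
    [Module R' M'] {r s n₀ : ℕ} {B : Type} [CommRing B] (bV : Module.Basis (Fin (r + s)) R' M')
    (T : Matrix (Fin (r + s)) (Fin n₀) R) (Mx : Matrix (Fin n₀) (Fin r) B)
    (W : Matrix (Fin (r + s)) (Fin (r + s)) (R ⊗[ℤ] B))
    (hW : ∀ a i, W a (Fin.castAdd s i) =
      (T.map (fun a => algebraMap R (R ⊗[ℤ] B) a) * Mx.map (fun x => (1 : R) ⊗ₜ[ℤ] x) :
        Matrix (Fin (r + s)) (Fin r) (R ⊗[ℤ] B)) a i)
    (f : R) (hdet : W.det ∣ algebraMap R (R ⊗[ℤ] B) f) (hf : IsUnit (ρ f)) :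
    ∃ b : Module.Basis (Fin (r + s)) (SB R' B) (MB R' M' B), ∀ i, ExteriorAlgebra.ι (SB R' B) (b (Fin.castAdd s i)) =
      ∑ l, sca R' M' B ((1 : R') ⊗ₜ[ℤ] Mx l i) * ExteriorAlgebra.ι (SB R' B) (up R' M' B (∑ a, ρ (T a l) • bV a)) := by
  let fS : R ⊗[ℤ] B →+* SB R' B := (Algebra.TensorProduct.map ρ.toIntAlgHom (AlgHom.id ℤ B)).toRingHom
  have hfS : ∀ a, fS (algebraMap R _ a) = algebraMap R' (SB R' B) (ρ a) := fun a => by
    show Algebra.TensorProduct.map ρ.toIntAlgHom (AlgHom.id ℤ B) (a ⊗ₜ[ℤ] (1 : B)) = ρ a ⊗ₜ[ℤ] (1 : B)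
    rw [Algebra.TensorProduct.map_tmul]
    rfl
  have hfB : ∀ m : B, fS ((1 : R) ⊗ₜ[ℤ] m) = (1 : R') ⊗ₜ[ℤ] m := fun m => by
    show Algebra.TensorProduct.map ρ.toIntAlgHom (AlgHom.id ℤ B) ((1 : R) ⊗ₜ[ℤ] m) = _
    rw [Algebra.TensorProduct.map_tmul, map_one]
    rfl
  let W' := fS.mapMatrix W
  have hunit : IsUnit W'.det := by
    rw [show W'.det = fS W.det from (RingHom.map_det fS W).symm]
    refine isUnit_of_dvd_unit (map_dvd fS hdet) ?_
    rw [hfS]
    exact hf.map _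
  let bS := bV.baseChange (SB R' B)
  let b := bS.map (Matrix.toLinearEquiv bS W' hunit)
  refine ⟨b, fun i => ?_⟩
  have hvec : b (Fin.castAdd s i) = ∑ l, ((1 : R') ⊗ₜ[ℤ] Mx l i : SB R' B) •
      up R' M' B (∑ a, ρ (T a l) • bV a) := by
    have hbv : b (Fin.castAdd s i) = ∑ a, W' a (Fin.castAdd s i) • bS a := by
      simp only [b, Module.Basis.map_apply, Matrix.toLinearEquiv_apply, Matrix.toLin_self]
    rw [hbv]
    simp only [map_sum, map_smul, Finset.smul_sum]
    rw [Finset.sum_comm]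
    refine Finset.sum_congr rfl fun a _ => ?_
    rw [show W' a (Fin.castAdd s i) = fS (W a (Fin.castAdd s i)) from rfl, hW, Matrix.mul_apply, map_sum,
      Finset.sum_smul]
    refine Finset.sum_congr rfl fun l _ => ?_
    rw [map_mul, Matrix.map_apply, Matrix.map_apply, hfS, hfB, mul_comm, mul_smul, algebraMap_smul,
      show bS a = up R' M' B (bV a) from Module.Basis.baseChange_apply _ _ a]
  rw [hvec, map_sum]
  exact Finset.sum_congr rfl fun l _ => ((ExteriorAlgebra.ι (SB R' B)).map_smul _ _).trans (Algebra.smul_def _ _)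

theorem splitAt_kPer [IsNoetherian X] {n₀ r s Q : ℕ} {B : Type} [CommRing B] (bB : Module.Basis (Fin Q) ℤ B)
    (hG : Coh.IsQCoh G) (hGf : FlatMod.IsFinLocFree G) (t : Fin n₀ → Sec G ⊤) (ht : ProjUP.GeneratedBy G t)
    (Mx : Matrix (Fin n₀) (Fin r) B) {Z : Set X} (hZ : IsClosed Z) (F : Frame G (r + s))
    (hM : (F.chart t hG ht hZ).Good Mx) {x : X} (hxV : x ∈ F.V) (hxZ : x ∈ Z) (hx : ¬ Deep Z (s + 1) x) :
    (kPer hG (s + 1) t (Amat bB Mx) hGf (Amat_comm bB Mx)).SplitAt x := by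
  let p := F.hV.primeIdealOf ⟨x, hxV⟩
  have hp : F.hV.fromSpec p = x := F.hV.fromSpec_primeIdealOf ⟨x, hxV⟩
  obtain ⟨f, hf, W, hW, hdet⟩ := exists_det bB (F.chart t hG ht hZ) Mx hM p
    (show Deep Z 0 (F.hV.fromSpec p) from hp.symm ▸ hxZ) (fun h => hx (hp ▸ h))
  refine ⟨X.basicOpen f, (QCoh.mem_basicOpen_iff_notMem F.hV hxV f).2 hf, fun V hV hle => ?_⟩
  have hVV : V ≤ F.V := hle.trans (X.basicOpen_le f)
  have hunit : IsUnit ((X.presheaf.map (homOfLE hVV).op).hom f) := by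
    have h1 : IsUnit (X.presheaf.map (homOfLE (X.basicOpen_le f)).op f) := RingedSpace.isUnit_res_basicOpen _ f
    have h2 := h1.map (X.presheaf.map (homOfLE hle).op).hom
    rwa [← CommRingCat.comp_apply, ← X.presheaf.map_comp] at h2
  obtain ⟨b, hb⟩ := exists_basis_of_matrix (R := Γ(X, F.V)) (X.presheaf.map (homOfLE hVV).op).hom (F.basis hVV)
    (F.coord t) Mx W hW f hdet hunit
  refine splitOn_kPer hG bB (s + 1) t Mx hGf (U := ⟨V, hV⟩) (Nat.lt_succ_self s) b fun i => (hb i).trans ?_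
  exact Finset.sum_congr rfl fun l _ => congrArg
    (fun w => sca Γ(X, V) (Sec G V) B ((1 : Γ(X, V)) ⊗ₜ[ℤ] Mx l i) *
      ExteriorAlgebra.ι (SB Γ(X, V) B) (up Γ(X, V) (Sec G V) B w)) (F.secAt_eq t hVV l).symm

/-- Two coprime multiples of `λ^k(g - r)` are classes of complexes with deep supports. -/
theorem exists_per [IsNoetherian X] {K : Type v} [CommRing K] [LambdaRing.LambdaOps K] {P : LambdaRing.PosStructure K}
    {φ : SGA6.Kvb X →+ K} (hK : KRR.IsModel X K P φ) {r s n₀ : ℕ} (hGr : FlatMod.IsFinLocFreeOfRank (r + s) G)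
    (t : Fin n₀ → Sec G ⊤) (ht : ProjUP.GeneratedBy G t) (hr : r ≤ n₀) {Z : Set X} (hZ : IsClosed Z) {b : ℕ}
    (hb : 2 ≤ b) :
    ∃ (A : ℕ) (C : Per X), φ C.cls = ((b ^ A : ℕ) : K) * LambdaRing.LambdaOps.lam (s + 1) (φ (KRR.cl X G) - (r : K)) ∧
      ∀ x ∈ Z, ¬ Deep Z (s + 1) x → C.SplitAt x := by
  classical
  have hGf : FlatMod.IsFinLocFree G := ExtPowSh.flf_of_rank hGr
  have hG : Coh.IsQCoh G := QCoh.isQCoh_of_isFinLocFree hGf
  choose F hF using fun x => exists_frame hGr x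
  obtain ⟨S, hS⟩ := (isCompact_univ (X := X)).elim_finite_subcover (fun x => ((F x).V : Set X)) (fun x => (F x).V.2)
    fun x _ => Set.mem_iUnion.2 ⟨x, hF x⟩
  obtain ⟨A, B, _, bB, Mx, hM⟩ := exists_good (ι := ↥S) (fun j => (F j.1).chart t hG ht hZ) hb hr
  refine ⟨A, kPer hG (s + 1) t (Amat bB Mx) hGf (Amat_comm bB Mx), phi_cls_kPer hG hK (s + 1) t _ hGf _, fun x hxZ hx => ?_⟩
  obtain ⟨j, hj, hxj⟩ := Set.mem_iUnion₂.1 (hS (Set.mem_univ x))
  exact splitAt_kPer bB hG hGf t ht Mx hZ (F j) (hM ⟨j, hj⟩) hxj hxZ hx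

end Groth.Agent.KDim
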