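import Groth.Agent.KDim.Local
import Groth.Agent.Lambda.GammaFil
import Groth.Agent.Lambda.Filtration
import Groth.Agent.Lambda.AdamsRR
import Groth.Agent.KRRReg.GammaGen
import Groth.Agent.KPB.Split
import Groth.Agent.KPB.AdamsPush
import Groth.Agent.AmpleX.Generated
import Groth.Agent.AmpleX.Separated
import Groth.Agent.H9PB.Roots

/-!
# The γ-filtration of `K(X)` vanishes above the dimension
-/

set_option autoImplicit false
set_option linter.style.haveILetI false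
set_option linter.unusedSectionVars false
set_option backward.isDefEq.respectTransparency false
set_option backward.isDefEq.respectTransparency.types false
set_option maxHeartbeats 1000000

universe v u

open CategoryTheory CategoryTheory.Limits AlgebraicGeometry TopologicalSpace Opposite

attribute [-instance] CategoryTheory.catToReflQuiver

noncomputable section

namespace Groth.Agent.KDim

open Groth.Agent ExtPowSh LambdaRing

variable {X : Scheme.{u}} [IsNoetherian X] {K : Type v} [CommRing K] [LambdaOps K] {P : PosStructure K}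
  {φ : SGA6.Kvb X →+ K}

/-- A two-term complex without differential. -/
def twoTerm (A B : X.Modules) (hA : FlatMod.IsFinLocFree A) (hB : FlatMod.IsFinLocFree B) : Per X where
  I := ULift.{u} Bool
  par i := i.down
  O i := if i.down then B else A
  flf i := by split <;> assumption
  d _ _ := 0
  d_odd _ _ _ := rfl
  sq _ _ := by simp

theorem cls_twoTerm (A B : X.Modules) (hA : FlatMod.IsFinLocFree A) (hB : FlatMod.IsFinLocFree B) :
    (twoTerm A B hA hB).cls = KRR.cl X A - KRR.cl X B := by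
  show ∑ i : ULift.{u} Bool, sg i.down • KRR.cl X (if i.down then B else A) = _
  refine (Fintype.sum_equiv Equiv.ulift _ (fun b : Bool => sg b • KRR.cl X (if b then B else A)) (fun _ => rfl)).trans ?_
  rw [Fintype.sum_bool]
  simp [sg, sub_eq_neg_add]

/-- Represented by complexes with supports in points of depth `k`, inside any closed set. -/
def Supp (φ : SGA6.Kvb X →+ K) (k : ℕ) (x : K) : Prop :=
  ∀ Z : Set X, IsClosed Z → ∃ C : Per X, φ C.cls = x ∧ ∀ y ∈ Z, ¬ Deep Z k y → C.SplitAt y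

theorem supp_zero (k : ℕ) : Supp φ k 0 := fun _ _ =>
  ⟨Per.empty X, by rw [Per.cls_empty, map_zero], fun y _ _ => Per.splitAt_empty y⟩

theorem supp_add {k : ℕ} {x y : K} (hx : Supp φ k x) (hy : Supp φ k y) : Supp φ k (x + y) := fun Z hZ => by
  obtain ⟨C, hC, hC'⟩ := hx Z hZ
  obtain ⟨D, hD, hD'⟩ := hy Z hZ
  exact ⟨C.sum D, by rw [Per.cls_sum, map_add, hC, hD],
    fun z hz hd => Per.splitAt_sum C D (hC' z hz hd) (hD' z hz hd)⟩

variable (hK : KRR.IsModel X K P φ)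

include hK in
theorem exists_two (x : K) : ∃ D : Per X, φ D.cls = x := by
  obtain ⟨z, rfl⟩ := hK.bijective.2 x
  obtain ⟨A, B, hA, hB, rfl⟩ := exists_sub_cl z
  exact ⟨twoTerm A B hA hB, by rw [cls_twoTerm]⟩

include hK in
theorem supp_mul {a b : ℕ} {x y : K} (hx : Supp φ a x) (hy : Supp φ b y) : Supp φ (a + b) (x * y) := fun Z hZ => by
  obtain ⟨C, hC, hC'⟩ := hx Z hZ
  let Z' : Set X := Z ∩ {z | C.SplitAt z}ᶜ
  obtain ⟨D, hD, hD'⟩ := hy Z' (hZ.inter (Per.isOpen_splitAt C).isClosed_compl)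
  refine ⟨C.tensor D, by rw [Per.phi_cls_tensor C D hK.map_mul, hC, hD], fun z hz hd => ?_⟩
  refine Per.splitAt_tensor C D ?_
  by_contra h
  simp only [not_or] at h
  have hzZ' : z ∈ Z' := ⟨hz, h.1⟩
  refine hd (Deep.trans (fun w hw => ?_) (by_contra fun hn => h.2 (hD' z hzZ' hn)))
  by_contra hn
  exact hw.2 (hC' w hw.1 hn)

include hK in
theorem supp_smul {k : ℕ} (r : K) {x : K} (hx : Supp φ k x) : Supp φ k (r * x) := fun Z hZ => by
  obtain ⟨C, hC, hC'⟩ := hx Z hZ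
  obtain ⟨D, hD⟩ := exists_two hK r
  exact ⟨D.tensor C, by rw [Per.phi_cls_tensor D C hK.map_mul, hC, hD],
    fun z hz hd => Per.splitAt_tensor D C (Or.inr (hC' z hz hd))⟩

/-- The support filtration. -/
def T (k : ℕ) : Ideal K where
  carrier := {x | Supp φ k x}
  zero_mem' := supp_zero k
  add_mem' := supp_add
  smul_mem' r _ hx := supp_smul hK r hx

theorem mem_T {k : ℕ} {x : K} : x ∈ T hK k ↔ Supp φ k x := Iff.rfl

theorem isMulFiltration_T : Lambda.IsMulFiltration (T hK) where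
  zero := eq_top_iff.2 fun x _ Z _ => by
    obtain ⟨C, hC⟩ := exists_two hK x
    exact ⟨C, hC, fun y hy hd => absurd hy hd⟩
  anti a b hab x hx Z hZ := by
    obtain ⟨C, hC, hC'⟩ := hx Z hZ
    exact ⟨C, hC, fun y hy hd => hC' y hy fun h => hd (Deep.anti hab h)⟩
  mul_mem := fun {a b x y} hx hy => supp_mul hK hx hy

theorem T_eq_bot {d : ℕ} (hd : topologicalKrullDim ↥X ≤ (d : WithBot ℕ∞)) : T hK (d + 1) = ⊥ := by
  refine eq_bot_iff.2 fun x hx => ?_
  obtain ⟨C, hC, hC'⟩ := hx Set.univ isClosed_univ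
  rw [Submodule.mem_bot, ← hC, C.cls_eq_zero fun y => hC' y trivial (not_deep hd _ y), map_zero]

theorem supp_of_forall {k : ℕ} {x : K}
    (h : ∀ Z : Set X, IsClosed Z → ∀ b : ℕ, 2 ≤ b → ∃ (A : ℕ) (C : Per X),
      φ C.cls = ((b ^ A : ℕ) : K) * x ∧ ∀ y ∈ Z, ¬ Deep Z k y → C.SplitAt y) : x ∈ T hK k := by
  intro Z hZ
  obtain ⟨A₂, C₂, h₂, h₂'⟩ := h Z hZ 2 le_rfl
  obtain ⟨A₃, C₃, h₃, h₃'⟩ := h Z hZ 3 (by norm_num)
  obtain ⟨u, v, huv⟩ := Int.isCoprime_iff_gcd_eq_one.2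
    (show Int.gcd ((2 ^ A₂ : ℕ) : ℤ) ((3 ^ A₃ : ℕ) : ℤ) = 1 by
      rw [Int.gcd_natCast_natCast]; exact Nat.Coprime.pow _ _ (by norm_num))
  obtain ⟨U, hU⟩ := exists_two hK (u : K)
  obtain ⟨W, hW⟩ := exists_two hK (v : K)
  refine ⟨(U.tensor C₂).sum (W.tensor C₃), ?_, fun y hy hd => Per.splitAt_sum _ _
    (Per.splitAt_tensor _ _ (Or.inr (h₂' y hy hd))) (Per.splitAt_tensor _ _ (Or.inr (h₃' y hy hd)))⟩
  have h' : (u : K) * ((2 ^ A₂ : ℕ) : K) + (v : K) * ((3 ^ A₃ : ℕ) : K) = 1 := by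
    exact_mod_cast congrArg (Int.cast : ℤ → K) huv
  rw [Per.cls_sum, map_add, Per.phi_cls_tensor _ _ hK.map_mul, Per.phi_cls_tensor _ _ hK.map_mul, hU, hW, h₂, h₃,
    ← mul_assoc, ← mul_assoc, ← add_mul, h', one_mul]

theorem le_of_generated {G : X.Modules} {e n₀ : ℕ} (hG : FlatMod.IsFinLocFreeOfRank e G) (x : X)
    {t : Fin n₀ → Sec G ⊤} (ht : ProjUP.GeneratedBy G t) : e ≤ n₀ := by
  obtain ⟨F, hx⟩ := exists_frame hG x
  haveI : Nonempty F.V := ⟨⟨x, hx⟩⟩
  haveI : Nontrivial Γ(X, F.V) := inferInstance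
  have h := finrank_range_le_card (R := Γ(X, F.V)) (fun l => secAt G (t l) F.V)
  rw [Set.finrank, span_secAt (QCoh.isQCoh_of_isFinLocFree (ExtPowSh.flf_of_rank hG)) ht F.hV, finrank_top,
    Module.finrank_eq_card_basis (F.basis le_rfl), Fintype.card_fin, Fintype.card_fin] at h
  exact h

include hK in
/-- The key estimate. -/
theorem gamma_mem_of_generated [Nonempty X] {G : X.Modules} {e n₀ : ℕ} (hG : FlatMod.IsFinLocFreeOfRank e G)
    (he : 1 ≤ e) {t : Fin n₀ → Sec G ⊤} (ht : ProjUP.GeneratedBy G t) (k : ℕ) :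
    LambdaRing.gamma k (φ (KRR.cl X G) - (e : K)) ∈ T hK k := by
  rcases k with _ | s
  · rw [(isMulFiltration_T hK).zero]; trivial
  have h1 := Lambda.lam_one_eq_zero P
  have hpos : φ (KRR.cl X G) ∈ P.pos := (hK.mem_pos_iff _).2 ⟨e, G, he, hG, rfl⟩
  rcases Nat.lt_or_ge e (s + 1) with hlt | hge
  · rw [Lambda.gamma_sub_natCast_eq_zero h1 (fun i hi => P.lam_eq_zero _ hpos i ?_) hlt]
    · exact Ideal.zero_mem _
    · rw [hK.aug_cl e G hG]; exact_mod_cast hi
  obtain ⟨r, rfl⟩ : ∃ r, e = r + s := ⟨e - s, by omega⟩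
  rw [Lambda.gamma_eq_lam_add_sub_one h1,
    show φ (KRR.cl X G) - ((r + s : ℕ) : K) + ((s + 1 : ℕ) : K) - 1 = φ (KRR.cl X G) - (r : K) by push_cast; ring]
  obtain ⟨x⟩ := (inferInstance : Nonempty X)
  have hr : r ≤ n₀ := le_trans (Nat.le_add_right r s) (le_of_generated hG x ht)
  exact supp_of_forall hK fun Z hZ b hb => exists_per hK hG t ht hr hZ hb

variable [ConnectedSpace ↥X]

include hK in
theorem lam_mul_line (x : K) {u : K} (hu : P.IsLine u) (k : ℕ) :
    LambdaOps.lam k (x * u) = LambdaOps.lam k x * u ^ k := by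
  obtain ⟨K₀, _, _, P₀, φ₀, hK₀⟩ := exists_model (X := X)
  obtain ⟨a, ha, hlam, haug⟩ := KPB.exists_model_equiv hK hK₀
  have hline : P₀.IsLine (a u) := by
    obtain ⟨n, E, hn, hE, rfl⟩ := (hK.mem_pos_iff u).1 hu.1
    exact ⟨(hK₀.mem_pos_iff _).2 ⟨n, E, hn, hE, (ha _).symm⟩, by rw [haug]; exact hu.2⟩
  refine a.injective ?_
  rw [hlam, map_mul, Lambda.lam_mul_line (KPB.hasSplitting_model hK₀) _ hline, map_mul, map_pow, hlam]

include hK in
theorem gammaFiltration_eq_bot {L : X.Modules} (hL : CohB1.IsAmple L) {d : ℕ}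
    (hd : topologicalKrullDim ↥X ≤ (d : WithBot ℕ∞)) : LambdaRing.gammaFiltration P (d + 1) = ⊥ := by
  haveI := AmpleX.isSeparated_of_isAmple hL
  haveI : CompactSpace X := hL.2.1
  have hT := isMulFiltration_T hK
  have key : ∀ e ∈ P.pos, e - ((P.aug e).toNat : K) ∈ hT.gammaSubgroup := by
    intro x hx
    obtain ⟨n, E, hn, hE, rfl⟩ := (hK.mem_pos_iff x).1 hx
    have hO : FlatMod.IsFinLocFreeOfRank 1 (Coh.structureModule X) :=
      InvEnd.isFinLocFreeOfRank_one InvX.isInvertible_structureModule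
    have hft : ∀ {F : X.Modules}, FlatMod.IsFinLocFree F → CohB1.IsFT F := fun hF =>
      QCoh.isFT_of_isFP (QCoh.isFlat_and_isFP_iff.2 hF).2
    obtain ⟨N₁, hN₁⟩ := AmpleX.eventually_generated_fin hL
      (QCoh.isQCoh_of_isFinLocFree (flf_of_rank hE)) (hft (flf_of_rank hE))
    obtain ⟨N₂, hN₂⟩ := AmpleX.eventually_generated_fin hL
      (QCoh.isQCoh_of_isFinLocFree (flf_of_rank hO)) (hft (flf_of_rank hO))
    set N := max N₁ N₂
    have hM : FlatMod.IsFinLocFreeOfRank 1 (CohB1.tensorPow L N) :=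
      InvEnd.isFinLocFreeOfRank_one (H23.PicMul.isInvertible_tensorPow hL.1 N)
    obtain ⟨G, eG, m, t, ht⟩ := hN₁ N (le_max_left _ _)
    obtain ⟨G', eG', m', t', ht'⟩ := hN₂ N (le_max_right _ _)
    have hG : FlatMod.IsFinLocFreeOfRank n G := by
      have h := H9PB.isFinLocFreeOfRank_tensor hE hM
      rw [mul_one] at h
      intro y
      obtain ⟨U, hy, ⟨i⟩⟩ := h y
      exact ⟨U, hy, ⟨(Scheme.Modules.restrictFunctor U.ι).mapIso eG ≪≫ i⟩⟩
    have hG' : FlatMod.IsFinLocFreeOfRank 1 G' := by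
      have h := H9PB.isFinLocFreeOfRank_tensor hO hM
      rw [mul_one] at h
      intro y
      obtain ⟨U, hy, ⟨i⟩⟩ := h y
      exact ⟨U, hy, ⟨(Scheme.Modules.restrictFunctor U.ι).mapIso eG' ≪≫ i⟩⟩
    set ℓ := φ (KRR.cl X (CohB1.tensorPow L N)) with hℓ
    have hg : φ (KRR.cl X G) = φ (KRR.cl X E) * ℓ := by
      rw [hℓ, hK.map_mul _ _ (flf_of_rank hE) (flf_of_rank hM)]
      exact congrArg φ (KRRReg.cl_iso eG (flf_of_rank hG))
    have hg' : φ (KRR.cl X G') = ℓ := by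
      rw [← one_mul ℓ, ← hK.map_one, hℓ, hK.map_mul _ _ (flf_of_rank hO) (flf_of_rank hM)]
      exact congrArg φ (KRRReg.cl_iso eG' (flf_of_rank hG'))
    have hℓpos : P.IsLine ℓ := ⟨(hK.mem_pos_iff _).2 ⟨1, _, le_rfl, hM, rfl⟩, by rw [hℓ, hK.aug_cl 1 _ hM]; rfl⟩
    have hu : IsUnit ℓ := by
      have := P.isUnit_lam ℓ hℓpos.1
      rwa [hℓpos.2, show (1 : ℤ).toNat = 1 from rfl, LambdaOps.lam_one] at this
    obtain ⟨w, hw⟩ := hu
    set u : K := ((w⁻¹ : Kˣ) : K) with hu'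
    have huℓ : ℓ * u = 1 := by rw [← hw, hu', Units.mul_inv]
    have hline : ℓ - 1 ∈ T hK 1 := by
      have h := gamma_mem_of_generated hK hG' le_rfl ht' 1
      rw [Lambda.gamma_eq_lam_add_sub_one (Lambda.lam_one_eq_zero P), LambdaOps.lam_one, hg'] at h
      simpa using h
    have hu1 : u - 1 ∈ T hK 1 := by
      rw [show u - 1 = -u * (ℓ - 1) by linear_combination (1 : K) * huℓ]
      exact Ideal.mul_mem_left _ _ hline
    have hxu : φ (KRR.cl X G) * u = φ (KRR.cl X E) := by rw [hg, mul_assoc, huℓ, mul_one]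
    have hlam : ∀ i, LambdaOps.lam i (φ (KRR.cl X E)) =
        RingHom.id K (LambdaOps.lam i (φ (KRR.cl X G))) * u ^ i := fun i => by
      rw [RingHom.id_apply, hg, lam_mul_line hK _ hℓpos, mul_assoc, ← mul_pow, huℓ, one_pow, mul_one]
    exact KRRReg.gammaSeries_twist_mem hT (RingHom.id K) ((hK.mem_pos_iff _).2 ⟨n, G, hn, hG, rfl⟩)
      (fun i => by
        rw [hK.aug_cl n G hG, Int.toNat_natCast, RingHom.id_apply]
        exact gamma_mem_of_generated hK hG hn ht i) hx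
      (by rw [hK.aug_cl n G hG, hK.aug_cl n E hE]) hlam hu1
  have hall : ∀ x, P.aug x = 0 → ∀ i, LambdaRing.gamma i x ∈ T hK i := by
    intro x hx
    obtain ⟨e, f, he, hf, rfl⟩ := P.exists_sub x
    rw [map_sub, sub_eq_zero] at hx
    rw [← hT.mem_gammaSubgroup, show e - f = (e - ((P.aug e).toNat : K)) - (f - ((P.aug f).toNat : K)) by rw [hx]; ring]
    exact sub_mem (key e he) (key f hf)
  rw [LambdaRing.gammaFiltration, if_neg (Nat.succ_ne_zero d), AddSubgroup.closure_eq_bot_iff]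
  rintro y ⟨l, hl, hs, rfl⟩
  have : (l.map fun p => LambdaRing.gamma p.1 p.2).prod ∈ LambdaRing.gammaFil P.aug (d + 1) :=
    Ideal.subset_span ⟨l, hl, hs, rfl⟩
  have h2 := Lambda.gammaFil_le hT P.aug hall (d + 1) this
  rw [T_eq_bot hK hd, Submodule.mem_bot] at h2
  exact h2

end Groth.Agent.KDim
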