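import Mathlib.LinearAlgebra.Matrix.Rank
import Mathlib.LinearAlgebra.Matrix.NonsingularInverse
import Mathlib.LinearAlgebra.Dimension.StrongRankCondition

/-!
# Minors and completions over a field
-/

set_option autoImplicit false

open Module Submodule

namespace Groth.Agent.KDim

variable {L : Type*} [Field L]

theorem exists_indep_sub {V : Type*} [AddCommGroup V] [Module L V] [FiniteDimensional L V] {ι : Type*} (v : ι → V) {m : ℕ}
    (h : m ≤ finrank L (span L (Set.range v))) : ∃ f : Fin m → ι, LinearIndependent L fun i => v (f i) := by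
  obtain ⟨w, hw, -, hind⟩ := exists_fun_fin_finrank_span_eq L (Set.range v)
  choose f hf using hw
  refine ⟨f ∘ Fin.castLE h, ?_⟩
  have := hind.comp (Fin.castLE h) (Fin.castLE_injective h)
  rwa [show (fun i => v ((f ∘ Fin.castLE h) i)) = w ∘ Fin.castLE h from funext fun i => hf _]

theorem exists_minor {e n m : ℕ} (v : Fin n → Fin e → L) (h : m ≤ finrank L (span L (Set.range v))) :
    ∃ (f : Fin m → Fin n) (g : Fin m → Fin e), (Matrix.of fun a i => v (f i) (g a)).det ≠ 0 := by
  obtain ⟨f, hf⟩ := exists_indep_sub v h
  let A : Matrix (Fin e) (Fin m) L := Matrix.of fun a i => v (f i) a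
  have hrank : A.rank = m := by
    rw [Matrix.rank_eq_finrank_span_cols]
    exact (finrank_span_eq_card (b := fun i => v (f i)) hf).trans (Fintype.card_fin m)
  rw [← Matrix.rank_transpose, Matrix.rank_eq_finrank_span_cols] at hrank
  obtain ⟨g, hg⟩ := exists_indep_sub (fun a => A a) (le_of_eq hrank.symm)
  exact ⟨f, g, fun h0 => by
    have hu := (Matrix.linearIndependent_rows_iff_isUnit
      (A := Matrix.of fun a i => v (f i) (g a))).1 hg
    rw [Matrix.isUnit_iff_isUnit_det, h0] at hu
    exact not_isUnit_zero hu⟩

theorem le_finrank_of_minor {e n m : ℕ} (v : Fin n → Fin e → L) (f : Fin m → Fin n) (g : Fin m → Fin e)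
    (h : (Matrix.of fun a i => v (f i) (g a)).det ≠ 0) : m ≤ finrank L (span L (Set.range v)) := by
  have hi := (Matrix.linearIndependent_cols_iff_isUnit (A := Matrix.of fun a i => v (f i) (g a))).2
    ((Matrix.isUnit_iff_isUnit_det _).2 (isUnit_iff_ne_zero.2 h))
  have hv : LinearIndependent L fun i => v (f i) :=
    LinearIndependent.of_comp (LinearMap.funLeft L L g) hi
  refine le_trans (le_of_eq ((finrank_span_eq_card hv).trans (Fintype.card_fin m)).symm) ?_
  exact finrank_mono (span_mono (Set.range_subset_iff.2 fun i => ⟨f i, rfl⟩))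

/-- An independent family is completed to a basis by coordinate vectors. -/
theorem exists_completion {r s : ℕ} (w : Fin r → Fin (r + s) → L) (hw : LinearIndependent L w) :
    ∃ J : Fin s → Fin (r + s),
      (Matrix.of fun a c => Fin.append w (fun i => Pi.single (J i) (1 : L)) c a).det ≠ 0 := by
  let W := span L (Set.range w)
  have hW : finrank L W = r := (finrank_span_eq_card hw).trans (Fintype.card_fin r)
  let v : Fin (r + s) → (Fin (r + s) → L) ⧸ W := fun a => W.mkQ (Pi.single a 1)
  have hv : span L (Set.range v) = ⊤ := by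
    rw [show v = W.mkQ ∘ fun a => Pi.single a 1 from rfl, Set.range_comp, span_image,
      show span L (Set.range fun a : Fin (r + s) => Pi.single a (1 : L)) = ⊤ from
        (congrArg (fun b : Fin (r + s) → Fin (r + s) → L => span L (Set.range b))
          (funext fun a => (Pi.basisFun_apply L (Fin (r + s)) a).symm)).trans (Pi.basisFun L (Fin (r + s))).span_eq,
      Submodule.map_top, range_mkQ]
  have hQ := W.finrank_quotient_add_finrank
  rw [hW, finrank_fin_fun] at hQ
  obtain ⟨J, hJ⟩ := exists_indep_sub v (m := s) (by rw [hv, finrank_top]; omega)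
  refine ⟨J, ?_⟩
  have hall : LinearIndependent L (Fin.append w fun i => Pi.single (J i) (1 : L)) := by
    rw [Fintype.linearIndependent_iff]
    intro c hc
    rw [Fin.sum_univ_add] at hc
    simp only [Fin.append_left, Fin.append_right] at hc
    have h0 : ∑ i, c (Fin.natAdd r i) • v (J i) = 0 := by
      have := congrArg W.mkQ hc
      rw [map_add, map_sum, map_sum, map_zero, Finset.sum_eq_zero fun i _ => ?_, zero_add] at this
      · simpa only [map_smul] using this
      · rw [map_smul, show W.mkQ (w i) = 0 from (Submodule.Quotient.mk_eq_zero W).2 (subset_span ⟨i, rfl⟩), smul_zero]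
    have h1 := Fintype.linearIndependent_iff.1 hJ _ h0
    rw [Finset.sum_eq_zero (s := Finset.univ) (f := fun i => c (Fin.natAdd r i) • (Pi.single (J i) (1 : L) : Fin (r + s) → L))
      fun i _ => by rw [h1 i, zero_smul], add_zero] at hc
    have h2 := Fintype.linearIndependent_iff.1 hw _ hc
    intro i
    refine Fin.addCases h2 h1 i
  have hu := (Matrix.linearIndependent_cols_iff_isUnit
    (A := Matrix.of fun a c => Fin.append w (fun i => Pi.single (J i) (1 : L)) c a)).1 hall
  rw [Matrix.isUnit_iff_isUnit_det] at hu
  exact hu.ne_zero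

end Groth.Agent.KDim
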