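import Groth.Agent.ExtPowSh.Model
import Groth.Agent.ExtPowSh.Functor
import Groth.Agent.QCoh.TensorSections
import Groth.Agent.QCoh.DevissageIdeal
import Groth.Agent.QCoh.Support
import Groth.Agent.FlatTensBC.TensGod
import Groth.Agent.KZ.QuasiProj
import Groth.Agent.H4NS.KernelLocFree
import Groth.Agent.MorLib.ProjSections

/-!
# Two-periodic complexes of bundles with supports
-/

set_option autoImplicit false
set_option linter.style.haveILetI false
set_option linter.unusedSectionVars false
set_option backward.isDefEq.respectTransparency false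
set_option backward.isDefEq.respectTransparency.types false
set_option maxHeartbeats 1000000

universe u

open CategoryTheory CategoryTheory.Limits AlgebraicGeometry TopologicalSpace Opposite

attribute [-instance] CategoryTheory.catToReflQuiver

noncomputable section

namespace Groth.Agent.KDim

open Groth.Agent ExtPowSh

variable {X : Scheme.{u}}

/-- Sections. -/
abbrev Sec (M : X.Modules) (V : X.Opens) : Type u := M.val.obj (op V)

/-- The sign of a parity. -/
def sg (b : Bool) : ℤ := if b then -1 else 1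

/-- A finite matrix complex of bundles, graded by parity. -/
structure Per (X : Scheme.{u}) where
  I : Type u
  [fin : Fintype I]
  [dec : DecidableEq I]
  par : I → Bool
  O : I → X.Modules
  flf : ∀ a, FlatMod.IsFinLocFree (O a)
  d : ∀ a b, O a ⟶ O b
  d_odd : ∀ a b, par a = par b → d a b = 0
  sq : ∀ a c, ∑ b, d a b ≫ d b c = 0

attribute [instance] Per.fin Per.dec

namespace Per

/-- The class. -/
def cls (C : Per X) : SGA6.Kvb X := ∑ a, sg (C.par a) • KRR.cl X (C.O a)

/-- A contraction over `V`. -/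
def SplitOn (C : Per X) (V : X.Opens) : Prop :=
  ∃ h : ∀ a b, Sec (C.O a) V →ₗ[Γ(X, V)] Sec (C.O b) V, (∀ a b, C.par a = C.par b → h a b = 0) ∧
    ∀ (a c : C.I) (z : Sec (C.O a) V),
      ∑ b, (appL (C.d b c) V (h a b z) + h b c (appL (C.d a b) V z)) = Pi.single (M := fun i => Sec (C.O i) V) a z c

/-- Contractible near `x`. -/
def SplitAt (C : Per X) (x : X) : Prop := ∃ U : X.Opens, x ∈ U ∧ ∀ V : X.Opens, IsAffineOpen V → V ≤ U → C.SplitOn V

end Per

theorem sg_not (b : Bool) : sg (!b) = -sg b := by cases b <;> rfl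

theorem appL_comp {M N P : X.Modules} (f : M ⟶ N) (g : N ⟶ P) (V : X.Opens) (z : Sec M V) :
    appL (f ≫ g) V z = appL g V (appL f V z) := rfl

theorem appL_add {M N : X.Modules} (f g : M ⟶ N) (V : X.Opens) (z : Sec M V) :
    appL (f + g) V z = appL f V z + appL g V z := rfl

theorem appL_zero {M N : X.Modules} (V : X.Opens) (z : Sec M V) : appL (0 : M ⟶ N) V z = 0 := rfl

theorem appL_id {M : X.Modules} (V : X.Opens) (z : Sec M V) : appL (𝟙 M) V z = z := rfl

/-- Evaluation on a section, additive in the morphism. -/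
def appHom {M N : X.Modules} (V : X.Opens) (z : Sec M V) : (M ⟶ N) →+ Sec N V :=
  AddMonoidHom.mk' (fun f => appL f V z) fun f g => appL_add f g V z

theorem appL_zsmul {M N : X.Modules} (n : ℤ) (f : M ⟶ N) (V : X.Opens) (z : Sec M V) :
    appL (n • f) V z = n • appL f V z := map_zsmul (appHom V z) n f

theorem appL_sum {M N : X.Modules} {ι : Type*} (s : Finset ι) (f : ι → (M ⟶ N)) (V : X.Opens) (z : Sec M V) :
    appL (∑ i ∈ s, f i) V z = ∑ i ∈ s, appL (f i) V z := map_sum (appHom V z) f s

theorem lift_desc' {β : Type u} [Fintype β] (T : β → X.Modules) {M N : X.Modules} (p : ∀ b, M ⟶ T b) (q : ∀ b, T b ⟶ N) :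
    biproduct.lift p ≫ biproduct.desc q = ∑ b, p b ≫ q b := by
  calc biproduct.lift p ≫ biproduct.desc q
      = biproduct.lift p ≫ (∑ b, biproduct.π T b ≫ biproduct.ι T b) ≫ biproduct.desc q := by
        rw [QCoh.biproduct_total', Category.id_comp]
    _ = ∑ b, p b ≫ q b := by
        rw [Preadditive.sum_comp, Preadditive.comp_sum]
        exact Finset.sum_congr rfl fun b _ => by simp

/-- The class of a finite sum. -/
theorem cl_biproduct [IsNoetherian X] (β : Type u) [Fintype β] : ∀ (T : β → X.Modules), (∀ b, FlatMod.IsFinLocFree (T b)) →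
    KRR.cl X (⨁ T) = ∑ b, KRR.cl X (T b) := by
  classical
  refine Fintype.induction_empty_option (P := fun β [Fintype β] => ∀ (T : β → X.Modules),
    (∀ b, FlatMod.IsFinLocFree (T b)) → KRR.cl X (⨁ T) = ∑ b, KRR.cl X (T b)) ?_ ?_ ?_ β
  · intro α β _ e ih T hT
    letI := Fintype.ofEquiv β e.symm
    rw [← e.sum_comp (fun b => KRR.cl X (T b))]
    refine Eq.trans ?_ (ih (T ∘ e) fun a => hT _)
    exact KRRReg.cl_iso (biproduct.whiskerEquiv e (fun a => Iso.refl _)).symm (KZ.QuasiProj.flf_biproduct T hT)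
  · intro T hT
    rw [Fintype.sum_empty]
    exact KZ.clSub_isZero _ ((IsZero.iff_id_eq_zero _).2 (biproduct.hom_ext _ _ fun b => b.elim))
  · intro α _ ih T hT
    let S := ShortComplex.mk (biproduct.ι T none) (biproduct.lift fun a : α => biproduct.π T (some a))
      (biproduct.hom_ext _ _ fun a => by simp [biproduct.ι_π_ne])
    have hS : S.ShortExact := ShortComplex.Splitting.shortExact
      { r := biproduct.π T none
        s := biproduct.desc fun a : α => biproduct.ι T (some a)
        f_r := biproduct.ι_π_self T none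
        s_g := biproduct.hom_ext' _ _ fun a => biproduct.hom_ext _ _ fun b => by
          by_cases h : a = b
          · subst h; simp [S]
          · simp [S, biproduct.ι_π_ne _ h, biproduct.ι_π_ne T (show (some a : Option α) ≠ some b by simpa using h)]
        id := by
          dsimp only [S]
          refine biproduct.hom_ext' _ _ fun b => biproduct.hom_ext _ _ fun c => ?_
          rw [Preadditive.comp_add, Preadditive.add_comp, lift_desc', Preadditive.comp_sum, Preadditive.sum_comp,
            Category.comp_id]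
          refine Eq.trans ?_ (congrArg (· ≫ biproduct.π T c) (Category.comp_id (biproduct.ι T b)))
          conv_rhs => rw [← QCoh.biproduct_total' T, Preadditive.comp_sum, Preadditive.sum_comp]
          exact (Fintype.sum_option (fun j => (biproduct.ι T b ≫ biproduct.π T j ≫ biproduct.ι T j) ≫ biproduct.π T c)).symm }
    rw [Fintype.sum_option, ← ih (fun a => T (some a)) fun a => hT _]
    exact KZ.clSub_ses (KRR.vbP X) hS (hT none) (KZ.QuasiProj.flf_biproduct T hT) (KZ.QuasiProj.flf_biproduct _ fun a => hT _)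

theorem exists_kernel_section {M N : X.Modules} (φ : M ⟶ N) (V : X.Opens) (z : Sec M V) (hz : appL φ V z = 0) :
    ∃ y, appL (kernel.ι φ) V y = z := by
  let S := ShortComplex.mk (kernel.ι φ) (Abelian.coimage.π φ) (cokernel.condition _)
  have hS : S.ShortExact :=
    { exact := ShortComplex.exact_cokernel _, mono_f := inferInstance, epi_g := inferInstance }
  refine QCoh.exists_app_f_eq hS V z (QCoh.app_injective (Abelian.factorThruCoimage φ) V ?_)
  show appL (Abelian.factorThruCoimage φ) V (appL (Abelian.coimage.π φ) V z) = appL (Abelian.factorThruCoimage φ) V 0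
  rw [← appL_comp, Abelian.coimage.fac, hz, map_zero]

theorem projective_sections {M : X.Modules} (hM : FlatMod.IsFinLocFree M) {V : X.Opens} (hV : IsAffineOpen V) :
    Module.Projective Γ(X, V) Γ(M, V) := by
  choose U n hx hU using hM
  choose W hW hxW hle using fun x => exists_isAffineOpen_mem_and_subset (U := U x) (x := x) (hx x)
  refine MorLib.projective_sections_of_cover (QCoh.isQCoh_of_isFinLocFree fun x => ⟨U x, n x, hx x, hU x⟩) W
    (top_le_iff.1 fun x _ => Opens.mem_iSup.2 ⟨x, hxW x⟩) hW (fun x => ?_) hV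
  obtain ⟨l⟩ := QCoh.free_sections (hW x) (hle x) (hU x).some
  haveI := Module.Free.of_equiv l.symm
  infer_instance

theorem epi_of_sections {M N : X.Modules} (hM : Coh.IsQCoh M) (hN : Coh.IsQCoh N) (φ : M ⟶ N)
    (h : ∀ y : X, ∃ V : X.Opens, IsAffineOpen V ∧ y ∈ V ∧ Function.Surjective (appL φ V)) : Epi φ := by
  choose V hV hy hs using h
  refine Abelian.epi_of_cokernel_π_eq_zero φ (IsZero.eq_of_tgt ?_ _ _)
  have hC := QCoh.isQCoh_cokernel hM hN φ
  refine QCoh.isZero_of_cover hC V hV (fun y => ⟨y, hy y⟩) fun y => ?_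
  refine ⟨fun a b => ?_⟩
  obtain ⟨a, rfl⟩ := QCoh.app_surjective_of_epi hN hC (cokernel.π φ) (hV y) a
  obtain ⟨b, rfl⟩ := QCoh.app_surjective_of_epi hN hC (cokernel.π φ) (hV y) b
  obtain ⟨a, rfl⟩ := hs y a
  obtain ⟨b, rfl⟩ := hs y b
  show appL (cokernel.π φ) (V y) (appL φ (V y) a) = appL (cokernel.π φ) (V y) (appL φ (V y) b)
  rw [← appL_comp, ← appL_comp, cokernel.condition, appL_zero, appL_zero]

namespace Per

variable (C : Per X)

theorem isQCoh (a : C.I) : Coh.IsQCoh (C.O a) := QCoh.isQCoh_of_isFinLocFree (C.flf a)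

/-- The indices of a parity. -/
abbrev Ix (s : Bool) : Type u := {a : C.I // C.par a = s}

/-- The part of a parity. -/
abbrev part (s : Bool) : X.Modules := ⨁ fun a : C.Ix s => C.O a.1

/-- The differential between parts. -/
def dP (s t : Bool) : C.part s ⟶ C.part t := biproduct.desc fun a : C.Ix s => biproduct.lift fun b : C.Ix t => C.d a.1 b.1

theorem sum_other {M : Type*} [AddCommMonoid M] {s t : Bool} (hst : s ≠ t) (f : C.I → M)
    (hf : ∀ b, C.par b = s → f b = 0) : ∑ b : C.Ix t, f b.1 = ∑ b, f b := by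
  classical
  rw [← Finset.sum_subtype (Finset.univ.filter fun b => C.par b = t) (fun b => by simp) f,
    Finset.sum_filter]
  refine Finset.sum_congr rfl fun b _ => ?_
  split_ifs with h
  · rfl
  · exact (hf b (by revert h hst; cases C.par b <;> cases s <;> cases t <;> simp)).symm

theorem dP_π (s t : Bool) (b : C.Ix t) :
    C.dP s t ≫ biproduct.π (fun a : C.Ix t => C.O a.1) b = biproduct.desc fun a : C.Ix s => C.d a.1 b.1 :=
  biproduct.hom_ext' _ _ fun a => by simp [dP]

theorem app_dP (s t : Bool) (V : X.Opens) (x : Sec (C.part s) V) (b : C.Ix t) :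
    appL (biproduct.π (fun a : C.Ix t => C.O a.1) b) V (appL (C.dP s t) V x) =
      ∑ a : C.Ix s, appL (C.d a.1 b.1) V (appL (biproduct.π (fun a : C.Ix s => C.O a.1) a) V x) := by
  rw [← appL_comp, C.dP_π s t b]
  exact QCoh.biproduct_desc_app _ _ V x

theorem dP_dP {s t : Bool} (hst : s ≠ t) : C.dP s t ≫ C.dP t s = 0 := by
  refine biproduct.hom_ext _ _ fun c => biproduct.hom_ext' _ _ fun a => ?_
  rw [Category.assoc, C.dP_π t s c, dP, biproduct.ι_desc_assoc, lift_desc', zero_comp, comp_zero]
  exact (C.sum_other hst (fun m => C.d a.1 m ≫ C.d m c.1) fun m hm => by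
    rw [C.d_odd a.1 m (a.2.trans hm.symm), zero_comp]).trans (C.sq a.1 c.1)

theorem sec_ext {s : Bool} {V : X.Opens} {x y : Sec (C.part s) V}
    (h : ∀ b, appL (biproduct.π (fun a : C.Ix s => C.O a.1) b) V x = appL (biproduct.π _ b) V y) : x = y := by
  rw [QCoh.biproduct_app_decomp _ V x, QCoh.biproduct_app_decomp _ V y]
  exact Finset.sum_congr rfl fun b _ => congrArg _ (h b)

/-- The contraction between parts. -/
def hP {V : X.Opens} (h : ∀ a b, Sec (C.O a) V →ₗ[Γ(X, V)] Sec (C.O b) V) (s t : Bool) :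
    Sec (C.part s) V →ₗ[Γ(X, V)] Sec (C.part t) V :=
  ∑ b : C.Ix t, ∑ a : C.Ix s, (appL (biproduct.ι (fun a : C.Ix t => C.O a.1) b) V).comp
    ((h a.1 b.1).comp (appL (biproduct.π (fun a : C.Ix s => C.O a.1) a) V))

theorem π_ι_apply (t : Bool) {V : X.Opens} (b b' : C.Ix t) (z : Sec (C.O b.1) V) :
    appL (biproduct.π (fun a : C.Ix t => C.O a.1) b') V (appL (biproduct.ι (fun a : C.Ix t => C.O a.1) b) V z) =
      Pi.single (M := fun i : C.Ix t => Sec (C.O i.1) V) b z b' := by
  rw [← appL_comp]
  rcases eq_or_ne b b' with rfl | hne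
  · rw [biproduct.ι_π_self, Pi.single_eq_same, appL_id]
  · rw [biproduct.ι_π_ne _ hne, Pi.single_eq_of_ne hne.symm, appL_zero]

theorem app_hP {V : X.Opens} (h : ∀ a b, Sec (C.O a) V →ₗ[Γ(X, V)] Sec (C.O b) V) (s t : Bool)
    (x : Sec (C.part s) V) (b : C.Ix t) :
    appL (biproduct.π (fun a : C.Ix t => C.O a.1) b) V (C.hP h s t x) =
      ∑ a : C.Ix s, h a.1 b.1 (appL (biproduct.π (fun a : C.Ix s => C.O a.1) a) V x) := by
  simp only [hP, LinearMap.sum_apply, LinearMap.comp_apply, map_sum, C.π_ι_apply]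
  rw [Finset.sum_eq_single b (fun b' _ hne => Finset.sum_eq_zero fun a _ => Pi.single_eq_of_ne hne.symm _)
    (fun h => absurd (Finset.mem_univ b) h)]
  exact Finset.sum_congr rfl fun a _ => Pi.single_eq_same _ _

theorem contraction {V : X.Opens} {h : ∀ a b, Sec (C.O a) V →ₗ[Γ(X, V)] Sec (C.O b) V}
    (hodd : ∀ a b, C.par a = C.par b → h a b = 0)
    (hid : ∀ (a c : C.I) (z : Sec (C.O a) V),
      ∑ b, (appL (C.d b c) V (h a b z) + h b c (appL (C.d a b) V z)) = Pi.single (M := fun i => Sec (C.O i) V) a z c)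
    {s t : Bool} (hst : s ≠ t) (x : Sec (C.part s) V) :
    appL (C.dP t s) V (C.hP h s t x) + C.hP h t s (appL (C.dP s t) V x) = x := by
  refine C.sec_ext fun c => ?_
  rw [map_add, C.app_dP, C.app_hP]
  simp only [C.app_hP, C.app_dP, map_sum]
  rw [Finset.sum_comm, Finset.sum_comm (f := fun m a => h _ _ (appL (C.d _ _) V _))]
  rw [← Finset.sum_add_distrib]
  simp only [← Finset.sum_add_distrib]
  have key : ∀ a : C.Ix s, ∑ m : C.Ix t, (appL (C.d m.1 c.1) V (h a.1 m.1 (appL (biproduct.π _ a) V x)) +
      h m.1 c.1 (appL (C.d a.1 m.1) V (appL (biproduct.π _ a) V x))) =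
      Pi.single (M := fun i => Sec (C.O i) V) a.1 (appL (biproduct.π (fun a : C.Ix s => C.O a.1) a) V x) c.1 := fun a =>
    (C.sum_other hst (fun m => appL (C.d m c.1) V (h a.1 m (appL (biproduct.π _ a) V x)) +
      h m c.1 (appL (C.d a.1 m) V (appL (biproduct.π _ a) V x))) fun m hm => by
        rw [hodd a.1 m (a.2.trans hm.symm), LinearMap.zero_apply, map_zero,
          C.d_odd a.1 m (a.2.trans hm.symm), appL_zero, map_zero, add_zero]).trans (hid a.1 c.1 _)
  refine (Finset.sum_congr rfl fun a _ => key a).trans ?_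
  rw [Finset.sum_eq_single c (fun a _ hne => Pi.single_eq_of_ne (fun h => hne (Subtype.ext h.symm)) _)
    (fun h => absurd (Finset.mem_univ c) h), Pi.single_eq_same]

variable [IsNoetherian X]

theorem part_qcoh (s : Bool) : Coh.IsQCoh (C.part s) := QCoh.isQCoh_biproduct _ fun a => C.isQCoh a.1

theorem part_flf (s : Bool) : FlatMod.IsFinLocFree (C.part s) := KZ.QuasiProj.flf_biproduct _ fun a => C.flf a.1

/-- A complex contractible at every point has class zero. -/
theorem cls_eq_zero (hC : ∀ x, C.SplitAt x) : C.cls = 0 := by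
  classical
  have hker : ∀ {s t : Bool}, s ≠ t → FlatMod.IsFinLocFree (kernel (C.dP s t)) := by
    intro s t hst
    have hqs := C.part_qcoh s
    have hq : Coh.IsQCoh (kernel (C.dP s t)) := QCoh.isQCoh_kernel hqs (C.part_qcoh t) _
    choose U hxU hU using hC
    choose V hV hxV hVU using fun x => exists_isAffineOpen_mem_and_subset (U := U x) (x := x) (hxU x)
    have hsp := fun x => hU x (V x) (hV x) (hVU x)
    have key : ∀ x, ∃ W : X.Opens, IsAffineOpen W ∧ x ∈ W ∧ Module.Finite Γ(X, W) Γ(kernel (C.dP s t), W) ∧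
        Module.Projective Γ(X, W) Γ(kernel (C.dP s t), W) := by
      intro x
      obtain ⟨h, hodd, hid⟩ := hsp x
      haveI : Module.Finite Γ(X, V x) (Sec (C.part s) (V x)) :=
        (QCoh.isCoh_iff.1 (QCoh.isCoh_biproduct _ fun a : C.Ix s => KZ.LFRes.flf_isCoh (C.flf a.1))).2
          ⟨V x, hV x⟩
      haveI : Module.Projective Γ(X, V x) (Sec (C.part s) (V x)) :=
        projective_sections (C.part_flf s) (hV x)
      let ι := appL (kernel.ι (C.dP s t)) (V x)
      have hinj : Function.Injective ι := QCoh.app_injective (kernel.ι (C.dP s t)) (V x)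
      let S := ShortComplex.mk (kernel.ι (C.dP s t)) (C.dP s t) (kernel.condition _)
      have hexk : ∀ z : Sec (C.part s) (V x), appL (C.dP s t) (V x) z = 0 → ∃ y, ι y = z := fun z hz =>
        exists_kernel_section (C.dP s t) (V x) z hz
      let ρ : Sec (C.part s) (V x) →ₗ[Γ(X, V x)] Sec (C.part s) (V x) :=
        (appL (C.dP t s) (V x)).comp (C.hP h s t)
      have hρ : ∀ z, appL (C.dP s t) (V x) (ρ z) = 0 := fun z => by
        show appL (C.dP s t) (V x) (appL (C.dP t s) (V x) _) = 0
        rw [← appL_comp, C.dP_dP hst.symm, appL_zero]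
      have hρid : ∀ y, ρ (ι y) = ι y := fun y => by
        have hc := C.contraction hodd hid hst (ι y)
        have h0 : appL (C.dP s t) (V x) (ι y) = 0 := by
          show appL (C.dP s t) (V x) (appL (kernel.ι (C.dP s t)) (V x) y) = 0
          rw [← appL_comp, kernel.condition, appL_zero]
        rwa [h0, map_zero, add_zero] at hc
      choose r hr using fun z => hexk (ρ z) (hρ z)
      let r' : Sec (C.part s) (V x) →ₗ[Γ(X, V x)] Sec (kernel (C.dP s t)) (V x) :=
        { toFun := r
          map_add' := fun a b => hinj (by rw [map_add, hr, hr, hr, map_add])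
          map_smul' := fun c a => hinj (by rw [RingHom.id_apply, map_smul, hr, hr, map_smul]) }
      have hsplit : r'.comp ι = LinearMap.id := LinearMap.ext fun y => hinj ((hr (ι y)).trans (hρid y))
      exact ⟨V x, hV x, hxV x, Module.Finite.of_surjective r' fun y => ⟨ι y, LinearMap.congr_fun hsplit y⟩,
        Module.Projective.of_split ι r' hsplit⟩
    choose W hW hxW hfin hproj using key
    refine QCoh.isFlat_and_isFP_iff.1 ⟨fun y => ?_, QCoh.isFP_of_finitePresentation hq W
      (top_le_iff.1 fun x _ => Opens.mem_iSup.2 ⟨x, hxW x⟩) hW fun x => ?_⟩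
    · haveI := hproj y
      exact (QCoh.flat_sections_iff hq (hW y)).1 inferInstance y (hxW y)
    · haveI := hfin x
      haveI := hproj x
      exact Module.finitePresentation_of_projective Γ(X, W x) Γ(kernel (C.dP s t), W x)
  have hses : ∀ {s t : Bool}, s ≠ t →
      KRR.cl X (C.part s) = KRR.cl X (kernel (C.dP s t)) + KRR.cl X (kernel (C.dP t s)) := by
    intro s t hst
    let g : C.part s ⟶ kernel (C.dP t s) := kernel.lift _ (C.dP s t) (C.dP_dP hst)
    have hex : (ShortComplex.mk (kernel.ι (C.dP s t)) g (by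
        rw [← cancel_mono (kernel.ι (C.dP t s)), Category.assoc, kernel.lift_ι, kernel.condition, zero_comp])).ShortExact := by
      haveI : Epi g := by
        refine epi_of_sections (C.part_qcoh s) (QCoh.isQCoh_kernel (C.part_qcoh t) (C.part_qcoh s) _) _ fun y => ?_
        obtain ⟨U, hyU, hU⟩ := hC y
        obtain ⟨V, hV, hy, hle⟩ := exists_isAffineOpen_mem_and_subset (U := U) (x := y) hyU
        obtain ⟨h, hodd, hid⟩ := hU V hV hle
        refine ⟨V, hV, hy, fun z => ⟨C.hP h t s (appL (kernel.ι (C.dP t s)) V z), ?_⟩⟩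
        apply QCoh.app_injective (kernel.ι (C.dP t s)) V
        show appL (kernel.ι (C.dP t s)) V (appL g V _) = appL (kernel.ι (C.dP t s)) V z
        rw [← appL_comp, kernel.lift_ι]
        have hc := C.contraction hodd hid hst.symm (appL (kernel.ι (C.dP t s)) V z)
        rwa [← appL_comp (kernel.ι (C.dP t s)), kernel.condition, appL_zero, map_zero, add_zero] at hc
      have hgι : g ≫ kernel.ι (C.dP t s) = C.dP s t := kernel.lift_ι _ _ _
      refine { exact := ?_, mono_f := inferInstance, epi_g := inferInstance }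
      let Φ : ShortComplex.mk (kernel.ι (C.dP s t)) g (by
            rw [← cancel_mono (kernel.ι (C.dP t s)), Category.assoc, kernel.lift_ι, kernel.condition, zero_comp]) ⟶
          ShortComplex.mk (kernel.ι (C.dP s t)) (C.dP s t) (kernel.condition _) :=
        (ShortComplex.homMk (S₁ := ShortComplex.mk (kernel.ι (C.dP s t)) g _)
          (S₂ := ShortComplex.mk (kernel.ι (C.dP s t)) (C.dP s t) (kernel.condition _))
          (𝟙 _) (𝟙 _) (kernel.ι (C.dP t s)) (by simp) (by simp [hgι]))
      haveI : Epi Φ.τ₁ := inferInstanceAs (Epi (𝟙 _))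
      haveI : IsIso Φ.τ₂ := inferInstanceAs (IsIso (𝟙 _))
      haveI : Mono Φ.τ₃ := inferInstanceAs (Mono (kernel.ι (C.dP t s)))
      exact (ShortComplex.exact_iff_of_epi_of_isIso_of_mono Φ).2 (ShortComplex.exact_kernel _)
    exact KZ.clSub_ses (KRR.vbP X) hex (hker hst) (C.part_flf s) (hker hst.symm)
  have h := (hses (s := false) (t := true) (by simp)).trans
    ((add_comm _ _).trans (hses (s := true) (t := false) (by simp)).symm)
  rw [show KRR.cl X (C.part false) = _ from cl_biproduct _ _ fun a => C.flf a.1,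
    show KRR.cl X (C.part true) = _ from cl_biproduct _ _ fun a => C.flf a.1] at h
  rw [cls, ← Finset.sum_fiberwise Finset.univ C.par, Fintype.sum_bool]
  have e : ∀ s, ∑ a ∈ Finset.univ.filter (fun a => C.par a = s), sg (C.par a) • KRR.cl X (C.O a) =
      sg s • ∑ a : C.Ix s, KRR.cl X (C.O a.1) := fun s => by
    rw [Finset.smul_sum, ← Finset.sum_subtype (Finset.univ.filter fun a => C.par a = s) (fun a => by simp)
      (fun a => sg s • KRR.cl X (C.O a))]
    exact Finset.sum_congr rfl fun a ha => by rw [(Finset.mem_filter.1 ha).2]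
  rw [e, e, h]
  simp [sg]

end Per

end Groth.Agent.KDim
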