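import Groth.Agent.KDim.Per

/-!
# Sums, negatives and tensor products of periodic complexes
-/

set_option autoImplicit false
set_option linter.style.haveILetI false
set_option linter.unusedSectionVars false
set_option backward.isDefEq.respectTransparency false
set_option backward.isDefEq.respectTransparency.types false
set_option maxHeartbeats 1000000

universe u v

open CategoryTheory CategoryTheory.Limits AlgebraicGeometry TopologicalSpace Opposite
open scoped TensorProduct

attribute [-instance] CategoryTheory.catToReflQuiver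

noncomputable section

namespace Groth.Agent.KDim

open Groth.Agent ExtPowSh

variable {X : Scheme.{u}}

namespace Per

/-- A difference of two bundles. -/
def pair (A B : X.Modules) (hA : FlatMod.IsFinLocFree A) (hB : FlatMod.IsFinLocFree B) : Per X where
  I := ULift.{u} Bool
  par := ULift.down
  O a := bif a.down then B else A
  flf := by rintro ⟨_ | _⟩ <;> assumption
  d _ _ := 0
  d_odd _ _ _ := rfl
  sq _ _ := by simp

theorem cls_pair (A B : X.Modules) (hA : FlatMod.IsFinLocFree A) (hB : FlatMod.IsFinLocFree B) :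
    (pair A B hA hB).cls = KRR.cl X A - KRR.cl X B := by
  rw [cls]
  refine (Fintype.sum_equiv Equiv.ulift _ (fun b : Bool => sg b • KRR.cl X (bif b then B else A)) fun _ => rfl).trans ?_
  simp [sg, Fintype.sum_bool, neg_add_eq_sub]

/-- The empty complex. -/
def empty (X : Scheme.{u}) : Per X where
  I := PEmpty.{u + 1}
  par := PEmpty.elim
  O a := a.elim
  flf a := a.elim
  d a _ := a.elim
  d_odd a _ := a.elim
  sq a _ := a.elim

theorem cls_empty : (empty X).cls = 0 := Finset.sum_eq_zero fun a _ => a.elim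

theorem splitAt_empty (x : X) : (empty X).SplitAt x := by
  exact ⟨⊤, trivial, fun V _ _ => ⟨fun a => a.elim, fun a => a.elim, fun a => a.elim⟩⟩

/-- Interchanging the parities. -/
def neg (C : Per X) : Per X :=
  { C with par := fun a => !C.par a, d_odd := fun a b h => C.d_odd a b (by simpa using h) }

theorem cls_neg (C : Per X) : C.neg.cls = -C.cls := by
  show ∑ a, sg (!C.par a) • KRR.cl X (C.O a) = -∑ a, sg (C.par a) • KRR.cl X (C.O a)
  simp [sg_not, Finset.sum_neg_distrib]

theorem splitAt_neg {C : Per X} {x : X} (h : C.SplitAt x) : C.neg.SplitAt x := by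
  obtain ⟨U, hx, hU⟩ := h
  refine ⟨U, hx, fun V hV hle => ?_⟩
  obtain ⟨h, hodd, hid⟩ := hU V hV hle
  exact ⟨h, fun a b hab => hodd a b (by simpa [neg] using hab), hid⟩

variable (C D : Per X)

/-- The components of a sum. -/
abbrev sumO : C.I ⊕ D.I → X.Modules := Sum.elim C.O D.O

/-- The differential of a sum. -/
def sumD : ∀ a b, sumO C D a ⟶ sumO C D b
  | .inl a, .inl b => C.d a b
  | .inr a, .inr b => D.d a b
  | .inl _, .inr _ => 0
  | .inr _, .inl _ => 0

/-- The sum. -/
def sum : Per X where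
  I := C.I ⊕ D.I
  par := Sum.elim C.par D.par
  O := sumO C D
  flf := by rintro (a | a); exacts [C.flf a, D.flf a]
  d := sumD C D
  d_odd := by
    rintro (a | a) (b | b) h
    exacts [C.d_odd a b h, rfl, rfl, D.d_odd a b h]
  sq := by
    rintro (a | a) (c | c) <;>
      simp [Fintype.sum_sum_type, sumD, C.sq, D.sq]

theorem cls_sum : (C.sum D).cls = C.cls + D.cls := Fintype.sum_sum_type _

/-- The contraction of a sum. -/
def sumH {V : X.Opens} (h : ∀ a b, Sec (C.O a) V →ₗ[Γ(X, V)] Sec (C.O b) V)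
    (h' : ∀ a b, Sec (D.O a) V →ₗ[Γ(X, V)] Sec (D.O b) V) :
    ∀ a b, Sec (sumO C D a) V →ₗ[Γ(X, V)] Sec (sumO C D b) V
  | .inl a, .inl b => h a b
  | .inr a, .inr b => h' a b
  | .inl _, .inr _ => 0
  | .inr _, .inl _ => 0

theorem splitOn_sum {V : X.Opens} (hC : C.SplitOn V) (hD : D.SplitOn V) : (C.sum D).SplitOn V := by
  classical
  obtain ⟨h, hodd, hid⟩ := hC
  obtain ⟨h', hodd', hid'⟩ := hD
  refine ⟨sumH C D h h', ?_, ?_⟩
  · rintro (a | a) (b | b) hab
    exacts [hodd a b hab, rfl, rfl, hodd' a b hab]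
  · show ∀ (a c : C.I ⊕ D.I) (z : Sec (sumO C D a) V), ∑ b : C.I ⊕ D.I, (appL (sumD C D b c) V (sumH C D h h' a b z) +
      sumH C D h h' b c (appL (sumD C D a b) V z)) = Pi.single (M := fun i => Sec (sumO C D i) V) a z c
    rintro (a | a) (c | c) z
    · rw [Fintype.sum_sum_type]
      simp only [sumD, sumH, LinearMap.zero_apply, map_zero, appL_zero, add_zero, Finset.sum_const_zero]
      refine (hid a c z).trans ?_
      rcases eq_or_ne a c with rfl | hne
      · rw [Pi.single_eq_same, Pi.single_eq_same]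
      · rw [Pi.single_eq_of_ne hne.symm, Pi.single_eq_of_ne (by simpa using hne.symm)]
    · rw [Fintype.sum_sum_type]
      simp only [sumD, sumH, appL_zero]
      refine (congrArg₂ (fun p q => p + q) (Finset.sum_eq_zero fun b _ => ?_) (Finset.sum_eq_zero fun b _ => ?_)).trans
        (add_zero _)
      all_goals first
        | rfl
        | exact (congrArg₂ (fun p q => p + q) (map_zero _) (map_zero _)).trans (add_zero _)
        | exact zero_add _
        | exact add_zero _
    · rw [Fintype.sum_sum_type]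
      simp only [sumD, sumH, appL_zero]
      refine (congrArg₂ (fun p q => p + q) (Finset.sum_eq_zero fun b _ => ?_) (Finset.sum_eq_zero fun b _ => ?_)).trans
        (add_zero _)
      all_goals first
        | rfl
        | exact (congrArg₂ (fun p q => p + q) (map_zero _) (map_zero _)).trans (add_zero _)
        | exact zero_add _
        | exact add_zero _
    · rw [Fintype.sum_sum_type]
      simp only [sumD, sumH, LinearMap.zero_apply, map_zero, appL_zero, zero_add, Finset.sum_const_zero]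
      refine (hid' a c z).trans ?_
      rcases eq_or_ne a c with rfl | hne
      · rw [Pi.single_eq_same, Pi.single_eq_same]
      · rw [Pi.single_eq_of_ne hne.symm, Pi.single_eq_of_ne (by simpa using hne.symm)]

end Per

/-- Tensor product of two morphisms. -/
def tmap {A A' B B' : X.Modules} (f : A ⟶ A') (g : B ⟶ B') : tens A B ⟶ tens A' B' :=
  (DCoh.tensorBi.map f).app B ≫ (DCoh.tensorBi.obj A').map g

theorem tmap_tmS {A A' B B' : X.Modules} (f : A ⟶ A') (g : B ⟶ B') (V : X.Opens) (s : Sec A V) (t : Sec B V) :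
    appL (tmap f g) V (QCoh.tmS A B s t) = QCoh.tmS A' B' (appL f V s) (appL g V t) :=
  (congrArg (fun w => appL ((DCoh.tensorBi.obj A').map g) V w) (KFlatLib.tmSh_naturality_left f B s t)).trans
    (KFlatLib.tmSh_naturality_right A' g _ t)

theorem tmap_ext {A B P : X.Modules} {g h : tens A B ⟶ P}
    (e : ∀ (U : X.Opens) (s : Sec A U) (t : Sec B U), appL g U (QCoh.tmS A B s t) = appL h U (QCoh.tmS A B s t)) :
    g = h :=
  FlatTensBC.hom_ext_tmS e

theorem tmap_comp {A A' A'' B B' B'' : X.Modules} (f : A ⟶ A') (g : B ⟶ B') (f' : A' ⟶ A'') (g' : B' ⟶ B'') :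
    tmap f g ≫ tmap f' g' = tmap (f ≫ f') (g ≫ g') :=
  tmap_ext fun U s t => by rw [appL_comp, tmap_tmS, tmap_tmS, tmap_tmS]; rfl

theorem tmap_add_left {A A' B B' : X.Modules} (f f' : A ⟶ A') (g : B ⟶ B') :
    tmap (f + f') g = tmap f g + tmap f' g :=
  tmap_ext fun U s t => by
    rw [appL_add, tmap_tmS, tmap_tmS, tmap_tmS, appL_add]
    exact QCoh.tmS_add_left _ _ _ _ _

theorem tmap_add_right {A A' B B' : X.Modules} (f : A ⟶ A') (g g' : B ⟶ B') :
    tmap f (g + g') = tmap f g + tmap f g' :=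
  tmap_ext fun U s t => by
    rw [appL_add, tmap_tmS, tmap_tmS, tmap_tmS, appL_add]
    exact QCoh.tmS_add_right _ _ _ _ _

/-- `tmap` as a biadditive map. -/
def tmapHom {A A' B B' : X.Modules} : (A ⟶ A') →+ (B ⟶ B') →+ (tens A B ⟶ tens A' B') :=
  AddMonoidHom.mk' (fun f => AddMonoidHom.mk' (tmap f) (tmap_add_right f)) fun f f' =>
    AddMonoidHom.ext (tmap_add_left f f')

theorem tmap_zero_left {A A' B B' : X.Modules} (g : B ⟶ B') : tmap (0 : A ⟶ A') g = 0 :=
  DFunLike.congr_fun (map_zero (tmapHom (A := A) (A' := A') (B := B) (B' := B'))) g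

theorem tmap_zero_right {A A' B B' : X.Modules} (f : A ⟶ A') : tmap f (0 : B ⟶ B') = 0 :=
  map_zero (tmapHom f)

theorem tmap_sum_left {A A' B B' : X.Modules} {ι : Type*} (s : Finset ι) (f : ι → (A ⟶ A')) (g : B ⟶ B') :
    ∑ i ∈ s, tmap (f i) g = tmap (∑ i ∈ s, f i) g :=
  (map_sum (AddMonoidHom.flip tmapHom g) f s).symm

theorem tmap_sum_right {A A' B B' : X.Modules} {ι : Type*} (s : Finset ι) (f : A ⟶ A') (g : ι → (B ⟶ B')) :
    ∑ i ∈ s, tmap f (g i) = tmap f (∑ i ∈ s, g i) :=
  (map_sum (tmapHom f) g s).symm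

namespace Per

variable (C D : Per X)

/-- The Kronecker morphism. -/
def kro (a b : C.I) : C.O a ⟶ C.O b := if h : a = b then eqToHom (by rw [h]) else 0

@[simp] theorem kro_self (a : C.I) : C.kro a a = 𝟙 _ := by simp [kro]

theorem kro_ne {a b : C.I} (h : a ≠ b) : C.kro a b = 0 := dif_neg h

theorem sum_kro_comp (a : C.I) {P : X.Modules} (f : ∀ b, C.O b ⟶ P) : ∑ b, C.kro a b ≫ f b = f a := by
  rw [Finset.sum_eq_single a (fun b _ h => by rw [C.kro_ne h.symm, zero_comp]) (by simp), kro_self, Category.id_comp]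

theorem sum_comp_kro (c : C.I) {P : X.Modules} (f : ∀ b, P ⟶ C.O b) : ∑ b, f b ≫ C.kro b c = f c := by
  rw [Finset.sum_eq_single c (fun b _ h => by rw [C.kro_ne h, comp_zero]) (by simp), kro_self, Category.comp_id]

/-- The differential of a tensor product. -/
def tensD (a b : C.I × D.I) : tens (C.O a.1) (D.O a.2) ⟶ tens (C.O b.1) (D.O b.2) :=
  tmap (C.d a.1 b.1) (D.kro a.2 b.2) + sg (C.par a.1) • tmap (C.kro a.1 b.1) (D.d a.2 b.2)

theorem tensD_odd (a b : C.I × D.I) (h : xor (C.par a.1) (D.par a.2) = xor (C.par b.1) (D.par b.2)) :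
    tensD C D a b = 0 := by
  have h1 : tmap (C.d a.1 b.1) (D.kro a.2 b.2) = 0 := by
    rcases eq_or_ne a.2 b.2 with he | he
    · rw [C.d_odd _ _ (Bool.xor_left_inj.1 (by rwa [← he] at h)), tmap_zero_left]
    · rw [D.kro_ne he, tmap_zero_right]
  have h2 : tmap (C.kro a.1 b.1) (D.d a.2 b.2) = 0 := by
    rcases eq_or_ne a.1 b.1 with he | he
    · rw [D.d_odd _ _ (Bool.xor_right_inj.1 (by rwa [← he] at h)), tmap_zero_right]
    · rw [C.kro_ne he, tmap_zero_left]
  rw [tensD, h1, h2, smul_zero, add_zero]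

theorem tensD_sq (a c : C.I × D.I) : ∑ b, tensD C D a b ≫ tensD C D b c = 0 := by
  obtain ⟨a, a'⟩ := a
  obtain ⟨c, c'⟩ := c
  simp only [tensD, Preadditive.add_comp, Preadditive.comp_add, Preadditive.zsmul_comp, Preadditive.comp_zsmul,
    tmap_comp, smul_add, smul_smul, Finset.sum_add_distrib, Fintype.sum_prod_type]
  have e1 : ∑ b, ∑ b', tmap (C.d a b ≫ C.d b c) (D.kro a' b' ≫ D.kro b' c') = 0 := by
    simp only [tmap_sum_right, D.sum_kro_comp, tmap_sum_left, C.sq, tmap_zero_left]
  have e2 : ∑ b, ∑ b', (sg (C.par b) * sg (C.par a)) • tmap (C.kro a b ≫ C.kro b c) (D.d a' b' ≫ D.d b' c') = 0 := by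
    simp only [← Finset.smul_sum, tmap_sum_right, D.sq, tmap_zero_right, smul_zero, Finset.sum_const_zero]
  have e3 : ∑ b, ∑ b', sg (C.par a) • tmap (C.kro a b ≫ C.d b c) (D.d a' b' ≫ D.kro b' c') =
      sg (C.par a) • tmap (C.d a c) (D.d a' c') := by
    simp only [← Finset.smul_sum, tmap_sum_right, D.sum_comp_kro, tmap_sum_left, C.sum_kro_comp]
  have e4 : ∑ b, ∑ b', sg (C.par b) • tmap (C.d a b ≫ C.kro b c) (D.kro a' b' ≫ D.d b' c') =
      sg (C.par c) • tmap (C.d a c) (D.d a' c') := by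
    simp only [← Finset.smul_sum, tmap_sum_right, D.sum_kro_comp]
    rw [Finset.sum_eq_single c (fun b _ h => by rw [C.kro_ne h, comp_zero, tmap_zero_left, smul_zero]) (by simp),
      kro_self, Category.comp_id]
  rw [e1, e2, e3, e4]
  rcases eq_or_ne (C.par a) (C.par c) with h | h
  · simp [C.d_odd a c h, tmap_zero_left]
  · rw [show sg (C.par a) = -sg (C.par c) by rw [← sg_not]; congr 1; revert h; cases C.par a <;> cases C.par c <;> simp,
      neg_smul]
    abel

/-- The tensor product. -/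
def tensor : Per X where
  I := C.I × D.I
  par a := xor (C.par a.1) (D.par a.2)
  O a := tens (C.O a.1) (D.O a.2)
  flf a := KFlatLib.isFinLocFree_tensor (C.flf a.1) (D.flf a.2)
  d := tensD C D
  d_odd := tensD_odd C D
  sq := tensD_sq C D

theorem phi_cls_tensor {K : Type v} [CommRing K] {φ : SGA6.Kvb X →+ K}
    (hmul : ∀ E F : X.Modules, FlatMod.IsFinLocFree E → FlatMod.IsFinLocFree F →
      φ (KRR.cl X E) * φ (KRR.cl X F) = φ (KRR.cl X (((DCoh.tensorBi (X := X)).obj E).obj F))) :
    φ (C.tensor D).cls = φ C.cls * φ D.cls := by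
  simp only [cls, map_sum, map_zsmul, Finset.sum_mul_sum]
  refine (Fintype.sum_prod_type _).trans (Finset.sum_congr rfl fun a _ => Finset.sum_congr rfl fun b _ => ?_)
  rw [smul_mul_smul_comm, hmul _ _ (C.flf a) (D.flf b)]
  show sg (xor (C.par a) (D.par b)) • _ = _
  congr 1
  cases C.par a <;> cases D.par b <;> rfl

theorem four_sums {M : Type*} [AddCommGroup M] {ι : Type*} [Fintype ι] {A A' B B' G G' E E' : ι → M} {w₁ w₂ P : M}
    (sx : ι → ℤ) (sa : ℤ) (hA : ∀ x, A x = A' x) (hB : ∀ x, B x = B' x) (hG : ∀ x, G x = G' x)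
    (hE : ∀ x, E x = E' x) (h₁ : ∑ x, sx x • B' x = w₁) (h₂ : ∑ x, E' x = w₂) (h₃ : ∑ x, A' x + ∑ x, G' x = P)
    (h₄ : w₁ + sa • w₂ = 0) : (∑ x, A x + ∑ x, sx x • B x) + (∑ x, G x + sa • ∑ x, E x) = P := by
  simp only [hA, hB, hG, hE]
  rw [add_add_add_comm, h₁, h₂, h₃, h₄, add_zero]

theorem tensS_ext {A B : X.Modules} (hA : Coh.IsQCoh A) (hB : Coh.IsQCoh B) {V : X.Opens} (hV : IsAffineOpen V)
    {P : Type u} [AddCommGroup P] [Module Γ(X, V) P] {f g : Sec (tens A B) V →ₗ[Γ(X, V)] P}
    (h : ∀ s t, f (QCoh.tmS A B s t) = g (QCoh.tmS A B s t)) : f = g := by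
  refine LinearMap.ext fun z => ?_
  obtain ⟨w, rfl⟩ := (QCoh.bijective_tmLin hA hB hV).2 z
  induction w using TensorProduct.induction_on with
  | zero => simp only [map_zero]
  | tmul s t => exact h s t
  | add w w' hw hw' => simp only [map_add, hw, hw']

theorem exists_left {A A' B : X.Modules} (hA : Coh.IsQCoh A) (hB : Coh.IsQCoh B) {V : X.Opens} (hV : IsAffineOpen V)
    (f : Sec A V →ₗ[Γ(X, V)] Sec A' V) : ∃ F : Sec (tens A B) V →ₗ[Γ(X, V)] Sec (tens A' B) V,
      ∀ s t, F (QCoh.tmS A B s t) = QCoh.tmS A' B (f s) t := by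
  let e := LinearEquiv.ofBijective (QCoh.tmLin A B V) (QCoh.bijective_tmLin hA hB hV)
  refine ⟨(QCoh.tmLin A' B V).comp ((TensorProduct.map f LinearMap.id).comp e.symm.toLinearMap), fun s t => ?_⟩
  show QCoh.tmLin A' B V (TensorProduct.map f LinearMap.id (e.symm (e (s ⊗ₜ t)))) = _
  rw [e.symm_apply_apply]
  rfl

/-- A tensor product is contractible where the first factor is. -/
theorem splitOn_tensor {V : X.Opens} (hV : IsAffineOpen V) (hC : C.SplitOn V) : (C.tensor D).SplitOn V := by
  classical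
  obtain ⟨h, hodd, hid⟩ := hC
  choose F hF using fun (a b : C.I) (a' : D.I) => exists_left (C.isQCoh a) (D.isQCoh a') hV (h a b)
  let H : ∀ a b : C.I × D.I, Sec (tens (C.O a.1) (D.O a.2)) V →ₗ[Γ(X, V)] Sec (tens (C.O b.1) (D.O b.2)) V :=
    fun a b => (appL (tmap (𝟙 (C.O b.1)) (D.kro a.2 b.2)) V).comp (F a.1 b.1 a.2)
  have hH : ∀ a b s t, H a b (QCoh.tmS _ _ s t) =
      QCoh.tmS (C.O b.1) (D.O b.2) (h a.1 b.1 s) (appL (D.kro a.2 b.2) V t) := fun a b s t => by
    show appL (tmap (𝟙 (C.O b.1)) (D.kro a.2 b.2)) V (F a.1 b.1 a.2 (QCoh.tmS _ _ s t)) = _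
    rw [hF, tmap_tmS, appL_id]
  have hz : ∀ {A B : X.Modules} (t : Sec B V), QCoh.tmS A B (0 : Sec A V) t = 0 := fun {A B} t =>
    (map_zero (AddMonoidHom.mk' (fun s => QCoh.tmS A B s t) fun a b => QCoh.tmS_add_left A B a b t))
  refine ⟨H, fun a b hab => ?_, fun a c z => ?_⟩
  · refine tensS_ext (C.isQCoh _) (D.isQCoh _) hV fun s t => ?_
    refine (hH a b s t).trans (Eq.trans ?_ (LinearMap.zero_apply _).symm)
    rcases eq_or_ne a.2 b.2 with he | he
    · have h' : C.par a.1 = C.par b.1 := Bool.xor_left_inj.1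
        ((congrArg (fun q => xor (C.par a.1) (D.par q)) he.symm).trans hab)
      rw [hodd _ _ h', LinearMap.zero_apply, hz]
    · rw [D.kro_ne he, appL_zero]
      exact FlatTensBC.tmS_zero_right _ _ _
  · obtain ⟨a, a'⟩ := a
    obtain ⟨c, c'⟩ := c
    let L : Sec (tens (C.O a) (D.O a')) V →ₗ[Γ(X, V)] Sec (tens (C.O c) (D.O c')) V :=
      ∑ b, ((appL (tensD C D b (c, c')) V).comp (H (a, a') b) + (H b (c, c')).comp (appL (tensD C D (a, a') b) V))
    let R : Sec (tens (C.O a) (D.O a')) V →ₗ[Γ(X, V)] Sec (tens (C.O c) (D.O c')) V :=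
      (LinearMap.proj (c, c')).comp (LinearMap.single Γ(X, V) (fun i : C.I × D.I => Sec (tens (C.O i.1) (D.O i.2)) V) (a, a'))
    suffices hLR : L = R by
      have := LinearMap.congr_fun hLR z
      simp only [L, R, LinearMap.sum_apply, LinearMap.add_apply, LinearMap.comp_apply, LinearMap.proj_apply,
        LinearMap.single_apply] at this
      exact this
    refine tensS_ext (C.isQCoh _) (D.isQCoh _) hV fun s t => ?_
    simp only [L, R, LinearMap.sum_apply, LinearMap.add_apply, LinearMap.comp_apply, LinearMap.proj_apply,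
      LinearMap.single_apply]
    -- terms
    let T : Sec (C.O c) V → Sec (D.O c') V → Sec (tens (C.O c) (D.O c')) V := QCoh.tmS (C.O c) (D.O c')
    let T₁ : Sec (C.O c) V →+ Sec (tens (C.O c) (D.O c')) V :=
      AddMonoidHom.mk' (fun x => T x (appL (D.kro a' c') V t)) fun x y => QCoh.tmS_add_left _ _ _ _ _
    let T₂ : Sec (C.O c) V →+ Sec (tens (C.O c) (D.O c')) V :=
      AddMonoidHom.mk' (fun x => T x (appL (D.d a' c') V t)) fun x y => QCoh.tmS_add_left _ _ _ _ _
    have t1 : ∀ b b', appL (tensD C D (b, b') (c, c')) V (H (a, a') (b, b') (QCoh.tmS _ _ s t)) =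
        T (appL (C.d b c) V (h a b s)) (appL (D.kro a' b' ≫ D.kro b' c') V t) +
          sg (C.par b) • T (appL (C.kro b c) V (h a b s)) (appL (D.kro a' b' ≫ D.d b' c') V t) := fun b b' => by
      rw [hH, tensD, appL_add, appL_zsmul, tmap_tmS, tmap_tmS, appL_comp, appL_comp]
    have t2 : ∀ b b', H (b, b') (c, c') (appL (tensD C D (a, a') (b, b')) V (QCoh.tmS _ _ s t)) =
        T (h b c (appL (C.d a b) V s)) (appL (D.kro a' b' ≫ D.kro b' c') V t) +
          sg (C.par a) • T (h b c (appL (C.kro a b) V s)) (appL (D.d a' b' ≫ D.kro b' c') V t) := fun b b' => by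
      rw [tensD, appL_add, appL_zsmul, tmap_tmS, tmap_tmS, map_add, map_zsmul, hH, hH, appL_comp, appL_comp]
    have hsum : ∀ (x : Sec (C.O c) V) (g : D.I → (D.O a' ⟶ D.O c')),
        ∑ b', T x (appL (g b') V t) = T x (appL (∑ b', g b') V t) := fun x g => by
      rw [appL_sum]
      exact (map_sum (AddMonoidHom.mk' (T x) fun y y' => QCoh.tmS_add_right _ _ _ _ _) _ _).symm
    have i1 : ∀ x, ∑ b', T x (appL (D.kro a' b' ≫ D.kro b' c') V t) = T x (appL (D.kro a' c') V t) := fun x =>
      (hsum x _).trans (by rw [D.sum_kro_comp])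
    have i2 : ∀ x, ∑ b', T x (appL (D.kro a' b' ≫ D.d b' c') V t) = T x (appL (D.d a' c') V t) := fun x =>
      (hsum x _).trans (by rw [D.sum_kro_comp])
    have i3 : ∀ x, ∑ b', T x (appL (D.d a' b' ≫ D.kro b' c') V t) = T x (appL (D.d a' c') V t) := fun x =>
      (hsum x _).trans (by rw [D.sum_comp_kro])
    simp only [Fintype.sum_prod_type, t1, t2, Finset.sum_add_distrib, ← Finset.smul_sum]
    have k1 : ∑ b, sg (C.par b) • T (appL (C.kro b c) V (h a b s)) (appL (D.d a' c') V t) =
        sg (C.par c) • T (h a c s) (appL (D.d a' c') V t) := by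
      rw [Finset.sum_eq_single c (fun b _ hb => by rw [C.kro_ne hb, appL_zero]; show _ • T₂ 0 = 0; rw [map_zero, smul_zero])
        (by simp), kro_self, appL_id]
    have k2 : ∑ b, T (h b c (appL (C.kro a b) V s)) (appL (D.d a' c') V t) = T (h a c s) (appL (D.d a' c') V t) := by
      rw [Finset.sum_eq_single a (fun b _ hb => by rw [C.kro_ne hb.symm, appL_zero, map_zero]; exact map_zero T₂)
        (by simp), kro_self, appL_id]
    have hm : ∑ b, T (appL (C.d b c) V (h a b s)) (appL (D.kro a' c') V t) +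
        ∑ b, T (h b c (appL (C.d a b) V s)) (appL (D.kro a' c') V t) =
        T (Pi.single (M := fun i => Sec (C.O i) V) a s c) (appL (D.kro a' c') V t) := by
      rw [← Finset.sum_add_distrib, ← hid a c s]
      show _ = T₁ _
      rw [map_sum]
      exact Finset.sum_congr rfl fun b _ => (map_add T₁ _ _).symm
    have hcross : sg (C.par c) • T (h a c s) (appL (D.d a' c') V t) +
        sg (C.par a) • T (h a c s) (appL (D.d a' c') V t) = 0 := by
      rcases eq_or_ne (C.par a) (C.par c) with he | he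
      · rw [hodd a c he, LinearMap.zero_apply]
        show _ • T₂ 0 + _ • T₂ 0 = 0
        rw [map_zero, smul_zero, smul_zero, add_zero]
      · rw [show sg (C.par a) = -sg (C.par c) by
          rw [← sg_not]; congr 1; revert he; cases C.par a <;> cases C.par c <;> simp, neg_smul, add_neg_cancel]
    refine Eq.trans (four_sums (fun b => sg (C.par b)) (sg (C.par a))
      (fun x => i1 (appL (C.d x c) V (h a x s))) (fun x => i2 (appL (C.kro x c) V (h a x s)))
      (fun x => i1 (h x c (appL (C.d a x) V s))) (fun x => i3 (h x c (appL (C.kro a x) V s))) k1 k2 hm hcross) ?_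
    rcases eq_or_ne a c with rfl | hac
    · rw [Pi.single_eq_same]
      rcases eq_or_ne a' c' with rfl | hac'
      · rw [Pi.single_eq_same, kro_self, appL_id]
      · rw [Pi.single_eq_of_ne (by simpa [eq_comm] using hac'), D.kro_ne hac', appL_zero]
        exact FlatTensBC.tmS_zero_right _ _ _
    · rw [Pi.single_eq_of_ne hac.symm, Pi.single_eq_of_ne (fun h => hac (congrArg Prod.fst h).symm)]
      exact hz _

theorem exists_right {A B B' : X.Modules} (hA : Coh.IsQCoh A) (hB : Coh.IsQCoh B) {V : X.Opens} (hV : IsAffineOpen V)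
    (f : Sec B V →ₗ[Γ(X, V)] Sec B' V) : ∃ F : Sec (tens A B) V →ₗ[Γ(X, V)] Sec (tens A B') V,
      ∀ s t, F (QCoh.tmS A B s t) = QCoh.tmS A B' s (f t) := by
  let e := LinearEquiv.ofBijective (QCoh.tmLin A B V) (QCoh.bijective_tmLin hA hB hV)
  refine ⟨(QCoh.tmLin A B' V).comp ((TensorProduct.map LinearMap.id f).comp e.symm.toLinearMap), fun s t => ?_⟩
  show QCoh.tmLin A B' V (TensorProduct.map LinearMap.id f (e.symm (e (s ⊗ₜ t)))) = _
  rw [e.symm_apply_apply]
  rfl

/-- A tensor product is contractible where the second factor is. -/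
theorem splitOn_tensor' {V : X.Opens} (hV : IsAffineOpen V) (hD : D.SplitOn V) : (C.tensor D).SplitOn V := by
  classical
  obtain ⟨h, hodd, hid⟩ := hD
  choose F hF using fun (a : C.I) (a' b' : D.I) => exists_right (C.isQCoh a) (D.isQCoh a') hV (h a' b')
  let H : ∀ a b : C.I × D.I, Sec (tens (C.O a.1) (D.O a.2)) V →ₗ[Γ(X, V)] Sec (tens (C.O b.1) (D.O b.2)) V :=
    fun a b => sg (C.par a.1) • (appL (tmap (C.kro a.1 b.1) (𝟙 (D.O b.2))) V).comp (F a.1 a.2 b.2)
  have hH : ∀ a b s t, H a b (QCoh.tmS _ _ s t) =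
      sg (C.par a.1) • QCoh.tmS (C.O b.1) (D.O b.2) (appL (C.kro a.1 b.1) V s) (h a.2 b.2 t) := fun a b s t => by
    show sg (C.par a.1) • appL (tmap (C.kro a.1 b.1) (𝟙 (D.O b.2))) V (F a.1 a.2 b.2 (QCoh.tmS _ _ s t)) = _
    rw [hF, tmap_tmS, appL_id]
  have hz : ∀ {A B : X.Modules} (s : Sec A V), QCoh.tmS A B s (0 : Sec B V) = 0 := fun {A B} s =>
    FlatTensBC.tmS_zero_right _ _ _
  have hz' : ∀ {A B : X.Modules} (t : Sec B V), QCoh.tmS A B (0 : Sec A V) t = 0 := fun {A B} t =>
    (map_zero (AddMonoidHom.mk' (fun s => QCoh.tmS A B s t) fun a b => QCoh.tmS_add_left A B a b t))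
  refine ⟨H, fun a b hab => ?_, fun a c z => ?_⟩
  · refine tensS_ext (C.isQCoh _) (D.isQCoh _) hV fun s t => ?_
    refine (hH a b s t).trans (Eq.trans ?_ (LinearMap.zero_apply _).symm)
    rcases eq_or_ne a.1 b.1 with he | he
    · have h' : D.par a.2 = D.par b.2 := Bool.xor_right_inj.1
        ((congrArg (fun q => xor (C.par q) (D.par a.2)) he.symm).trans hab)
      rw [hodd _ _ h', LinearMap.zero_apply, hz, smul_zero]
    · rw [C.kro_ne he, appL_zero, hz', smul_zero]
  · obtain ⟨a, a'⟩ := a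
    obtain ⟨c, c'⟩ := c
    let L : Sec (tens (C.O a) (D.O a')) V →ₗ[Γ(X, V)] Sec (tens (C.O c) (D.O c')) V :=
      ∑ b, ((appL (tensD C D b (c, c')) V).comp (H (a, a') b) + (H b (c, c')).comp (appL (tensD C D (a, a') b) V))
    let R : Sec (tens (C.O a) (D.O a')) V →ₗ[Γ(X, V)] Sec (tens (C.O c) (D.O c')) V :=
      (LinearMap.proj (c, c')).comp (LinearMap.single Γ(X, V) (fun i : C.I × D.I => Sec (tens (C.O i.1) (D.O i.2)) V) (a, a'))
    suffices hLR : L = R by
      have := LinearMap.congr_fun hLR z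
      simp only [L, R, LinearMap.sum_apply, LinearMap.add_apply, LinearMap.comp_apply, LinearMap.proj_apply,
        LinearMap.single_apply] at this
      exact this
    refine tensS_ext (C.isQCoh _) (D.isQCoh _) hV fun s t => ?_
    simp only [L, R, LinearMap.sum_apply, LinearMap.add_apply, LinearMap.comp_apply, LinearMap.proj_apply,
      LinearMap.single_apply]
    -- terms
    let T : Sec (C.O c) V → Sec (D.O c') V → Sec (tens (C.O c) (D.O c')) V := QCoh.tmS (C.O c) (D.O c')
    let T₁ : Sec (D.O c') V →+ Sec (tens (C.O c) (D.O c')) V :=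
      AddMonoidHom.mk' (fun y => T (appL (C.kro a c) V s) y) fun x y => QCoh.tmS_add_right _ _ _ _ _
    let T₂ : Sec (D.O c') V →+ Sec (tens (C.O c) (D.O c')) V :=
      AddMonoidHom.mk' (fun y => T (appL (C.d a c) V s) y) fun x y => QCoh.tmS_add_right _ _ _ _ _
    have t1 : ∀ b b', appL (tensD C D (b, b') (c, c')) V (H (a, a') (b, b') (QCoh.tmS _ _ s t)) =
        sg (C.par a) • (T (appL (C.kro a b ≫ C.d b c) V s) (appL (D.kro b' c') V (h a' b' t)) +
          sg (C.par b) • T (appL (C.kro a b ≫ C.kro b c) V s) (appL (D.d b' c') V (h a' b' t))) := fun b b' => by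
      rw [hH, map_zsmul, tensD, appL_add, appL_zsmul, tmap_tmS, tmap_tmS, appL_comp, appL_comp]
    have t2 : ∀ b b', H (b, b') (c, c') (appL (tensD C D (a, a') (b, b')) V (QCoh.tmS _ _ s t)) =
        sg (C.par b) • T (appL (C.d a b ≫ C.kro b c) V s) (h b' c' (appL (D.kro a' b') V t)) +
          sg (C.par a) • (sg (C.par b) • T (appL (C.kro a b ≫ C.kro b c) V s) (h b' c' (appL (D.d a' b') V t))) :=
      fun b b' => by
      rw [tensD, appL_add, appL_zsmul, tmap_tmS, tmap_tmS, map_add, map_zsmul, hH, hH, appL_comp, appL_comp]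
    have hT0 : ∀ x, T x 0 = 0 := fun x => hz x
    have hT0' : ∀ y, T 0 y = 0 := fun y => hz' y
    have hsum : ∀ (y : Sec (D.O c') V) (g : C.I → (C.O a ⟶ C.O c)),
        ∑ b, T (appL (g b) V s) y = T (appL (∑ b, g b) V s) y := fun y g => by
      rw [appL_sum]
      exact (map_sum (AddMonoidHom.mk' (fun x => T x y) fun x x' => QCoh.tmS_add_left _ _ _ _ _) _ _).symm
    have k1 : ∀ b', T (appL (C.d a c) V s) (appL (D.kro b' c') V (h a' b' t)) =
        if b' = c' then T₂ (h a' c' t) else 0 := fun b' => by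
      split_ifs with hb
      · subst hb; rw [kro_self, appL_id]; rfl
      · rw [D.kro_ne hb, appL_zero, hT0]
    have k2 : ∀ b', T (appL (C.d a c) V s) (h b' c' (appL (D.kro a' b') V t)) =
        if b' = a' then T₂ (h a' c' t) else 0 := fun b' => by
      split_ifs with hb
      · subst hb; rw [kro_self, appL_id]; rfl
      · rw [D.kro_ne (Ne.symm hb), appL_zero, map_zero, hT0]
    have q1 : ∀ b', ∑ b, sg (C.par a) • T (appL (C.kro a b ≫ C.d b c) V s) (appL (D.kro b' c') V (h a' b' t)) =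
        sg (C.par a) • if b' = c' then T₂ (h a' c' t) else 0 := fun b' => by
      rw [← Finset.smul_sum, ← k1]
      exact congrArg _ ((hsum _ _).trans (by rw [C.sum_kro_comp]))
    have q2 : ∀ b', ∑ b, sg (C.par a) • (sg (C.par b) • T (appL (C.kro a b ≫ C.kro b c) V s)
        (appL (D.d b' c') V (h a' b' t))) = T₁ (appL (D.d b' c') V (h a' b' t)) := fun b' => by
      rw [Finset.sum_eq_single a (fun b _ hb => by rw [C.kro_ne hb.symm, zero_comp, appL_zero, hT0', smul_zero, smul_zero])
        (by simp), kro_self, Category.id_comp, smul_smul, show sg (C.par a) * sg (C.par a) = 1 by cases C.par a <;> rfl,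
        one_smul]
      rfl
    have q3 : ∀ b', ∑ b, sg (C.par b) • T (appL (C.d a b ≫ C.kro b c) V s) (h b' c' (appL (D.kro a' b') V t)) =
        sg (C.par c) • if b' = a' then T₂ (h a' c' t) else 0 := fun b' => by
      rw [Finset.sum_eq_single c (fun b _ hb => by rw [C.kro_ne hb, comp_zero, appL_zero, hT0', smul_zero]) (by simp),
        kro_self, Category.comp_id, k2]
    have q4 : ∀ b', ∑ b, sg (C.par a) • (sg (C.par b) • T (appL (C.kro a b ≫ C.kro b c) V s)
        (h b' c' (appL (D.d a' b') V t))) = T₁ (h b' c' (appL (D.d a' b') V t)) := fun b' => by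
      rw [Finset.sum_eq_single a (fun b _ hb => by rw [C.kro_ne hb.symm, zero_comp, appL_zero, hT0', smul_zero, smul_zero])
        (by simp), kro_self, Category.id_comp, smul_smul, show sg (C.par a) * sg (C.par a) = 1 by cases C.par a <;> rfl,
        one_smul]
      rfl
    have hcross : sg (C.par a) • T₂ (h a' c' t) + sg (C.par c) • T₂ (h a' c' t) = 0 := by
      rcases eq_or_ne (C.par a) (C.par c) with he | he
      · rw [show T₂ (h a' c' t) = 0 by
          show T (appL (C.d a c) V s) _ = 0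
          rw [C.d_odd a c he, appL_zero]; exact hT0' _, smul_zero, smul_zero, add_zero]
      · rw [show sg (C.par a) = -sg (C.par c) by
          rw [← sg_not]; congr 1; revert he; cases C.par a <;> cases C.par c <;> simp, neg_smul, neg_add_cancel]
    refine Eq.trans (Fintype.sum_prod_type_right _) ?_
    refine Eq.trans (Finset.sum_congr rfl (g := fun b' =>
      ((sg (C.par a) • if b' = c' then T₂ (h a' c' t) else 0) + (sg (C.par c) • if b' = a' then T₂ (h a' c' t) else 0)) +
        T₁ (appL (D.d b' c') V (h a' b' t) + h b' c' (appL (D.d a' b') V t))) fun b' _ => ?_) ?_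
    · rw [← q1, ← q3, map_add, ← q2, ← q4, ← Finset.sum_add_distrib, ← Finset.sum_add_distrib,
        ← Finset.sum_add_distrib]
      refine Finset.sum_congr rfl fun b _ => ?_
      rw [t1, t2, smul_add]
      abel
    rw [Finset.sum_add_distrib, Finset.sum_add_distrib, ← Finset.smul_sum, ← Finset.smul_sum, Finset.sum_ite_eq',
      Finset.sum_ite_eq', if_pos (Finset.mem_univ _), if_pos (Finset.mem_univ _), hcross, zero_add, ← map_sum]
    refine (congrArg T₁ (hid a' c' t)).trans ?_
    show T (appL (C.kro a c) V s) _ = _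
    rcases eq_or_ne a' c' with rfl | hac
    · rw [Pi.single_eq_same]
      rcases eq_or_ne a c with rfl | hac'
      · rw [Pi.single_eq_same, kro_self, appL_id]
      · rw [Pi.single_eq_of_ne (by simpa [eq_comm] using hac'), C.kro_ne hac', appL_zero]
        exact hz' _
    · rw [Pi.single_eq_of_ne hac.symm, Pi.single_eq_of_ne (fun h => hac (congrArg Prod.snd h).symm)]
      exact hz _

/-- A tensor product is contractible where either factor is. -/
theorem splitAt_tensor {x : X} (h : C.SplitAt x ∨ D.SplitAt x) : (C.tensor D).SplitAt x := by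
  rcases h with ⟨U, hx, h⟩ | ⟨U, hx, h⟩
  exacts [⟨U, hx, fun V hV hle => splitOn_tensor C D hV (h V hV hle)⟩,
    ⟨U, hx, fun V hV hle => splitOn_tensor' C D hV (h V hV hle)⟩]

theorem splitAt_sum {x : X} (hC : C.SplitAt x) (hD : D.SplitAt x) : (C.sum D).SplitAt x := by
  obtain ⟨U, hx, h⟩ := hC
  obtain ⟨U', hx', h'⟩ := hD
  exact ⟨U ⊓ U', ⟨hx, hx'⟩, fun V hV hle =>
    splitOn_sum C D (h V hV (hle.trans inf_le_left)) (h' V hV (hle.trans inf_le_right))⟩

theorem isOpen_splitAt : IsOpen {x | C.SplitAt x} :=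
  isOpen_iff_forall_mem_open.2 fun _ ⟨U, hx, h⟩ => ⟨(U : Set X), fun _ hy => ⟨U, hy, h⟩, U.2, hx⟩

end Per

end Groth.Agent.KDim
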