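import Groth.Agent.KDim.PerOps
import Groth.Agent.KDim.Homotopy
import Groth.Agent.Lib.TopDiff

/-!
# Koszul-type complexes of exterior powers attached to integer matrices
-/

set_option autoImplicit false
set_option linter.style.haveILetI false
set_option linter.unusedSectionVars false
set_option backward.isDefEq.respectTransparency false
set_option backward.isDefEq.respectTransparency.types false
set_option maxHeartbeats 1000000

universe u

open CategoryTheory CategoryTheory.Limits AlgebraicGeometry TopologicalSpace Opposite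

attribute [-instance] CategoryTheory.catToReflQuiver

noncomputable section

namespace Groth.Agent.KDim

open Groth.Agent ExtPowSh

/-- Left multiplication by a vector, one degree up. -/
def mulPow {R : Type u} [CommRing R] {M : Type u} [AddCommGroup M] [Module R M] (v : M) (q : ℕ) :
    ↥(⋀[R]^q M) →ₗ[R] ↥(⋀[R]^(q + 1) M) :=
  LinearMap.codRestrict _ ((LinearMap.mulLeft R (ExteriorAlgebra.ι R v)).comp (Submodule.subtype _)) fun z => by
    rw [ExteriorAlgebra.exteriorPower, pow_succ']
    exact Submodule.mul_mem_mul (LinearMap.mem_range_self _ v) z.2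

theorem mulPow_coe {R : Type u} [CommRing R] {M : Type u} [AddCommGroup M] [Module R M] (v : M) (q : ℕ)
    (z : ↥(⋀[R]^q M)) :
    ((mulPow v q z : ↥(⋀[R]^(q + 1) M)) : ExteriorAlgebra R M) = ExteriorAlgebra.ι R v * (z : ExteriorAlgebra R M) := rfl

theorem mulPow_ιMulti {R : Type u} [CommRing R] {M : Type u} [AddCommGroup M] [Module R M] (v : M) (q : ℕ)
    (w : Fin q → M) : mulPow v q (exteriorPower.ιMulti R q w) = exteriorPower.ιMulti R (q + 1) (Matrix.vecCons v w) := by
  refine Subtype.ext ?_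
  rw [mulPow_coe, exteriorPower.ιMulti_apply_coe, exteriorPower.ιMulti_apply_coe, ExteriorAlgebra.ιMulti_succ_apply]
  simp

theorem map_mulPow {R S : Type u} [CommRing R] [CommRing S] {f : R →+* S} {M N : Type u} [AddCommGroup M] [Module R M]
    [AddCommGroup N] [Module S N] (g : M →ₛₗ[f] N) (v : M) (q : ℕ) (z : ↥(⋀[R]^q M)) :
    ExtPowSh.map (q + 1) g (mulPow v q z) = mulPow (g v) q (ExtPowSh.map q g z) := by
  refine LinearMap.congr_fun (ExtPowSh.hom_ext (φ := (ExtPowSh.map (q + 1) g).comp (mulPow v q))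
    (ψ := (mulPow (g v) q).comp (ExtPowSh.map q g)) fun w => ?_) z
  simp only [LinearMap.comp_apply, mulPow_ιMulti, ExtPowSh.map_ιMulti]
  congr 1
  funext i
  refine Fin.cases ?_ (fun i => ?_) i <;> simp

variable {X : Scheme.{u}} (G : X.Modules)

/-- A global section, restricted. -/
def secAt (t : Sec G ⊤) (U : X.Opens) : Sec G U := resL G (le_top : U ≤ ⊤) t

theorem resL_secAt (t : Sec G ⊤) {U V : X.Opens} (h : V ≤ U) : resL G h (secAt G t U) = secAt G t V :=
  (G.val.map_comp_apply (homOfLE (le_top : U ≤ ⊤)).op (homOfLE h).op t).symm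

variable {G} (hG : Coh.IsQCoh G)

/-- Sections of the exterior power over an affine, inside the exterior algebra. -/
def emb (q : ℕ) (U : X.affineOpens) : Sec (L G q) U.1 →ₗ[Γ(X, U.1)] ExteriorAlgebra Γ(X, U.1) (Sec G U.1) :=
  (Submodule.subtype _).comp (LinearEquiv.ofBijective (toL G q U.1) (toL_bijective G q hG U.2)).symm.toLinearMap

theorem emb_toL (q : ℕ) (U : X.affineOpens) (z : ↥(⋀[Γ(X, U.1)]^q (Sec G U.1))) :
    emb hG q U (toL G q U.1 z) = (z : ExteriorAlgebra Γ(X, U.1) (Sec G U.1)) :=
  congrArg (fun w : ↥(⋀[Γ(X, U.1)]^q (Sec G U.1)) => (w : ExteriorAlgebra Γ(X, U.1) (Sec G U.1)))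
    ((LinearEquiv.ofBijective (toL G q U.1) (toL_bijective G q hG U.2)).symm_apply_apply z)

theorem emb_mem (q : ℕ) (U : X.affineOpens) (z : Sec (L G q) U.1) : emb hG q U z ∈ ⋀[Γ(X, U.1)]^q (Sec G U.1) :=
  ((LinearEquiv.ofBijective (toL G q U.1) (toL_bijective G q hG U.2)).symm z).2

theorem emb_injective (q : ℕ) (U : X.affineOpens) : Function.Injective (emb hG q U) :=
  Subtype.val_injective.comp (LinearEquiv.ofBijective (toL G q U.1) (toL_bijective G q hG U.2)).symm.injective

include hG in
theorem exists_wedge (t : Sec G ⊤) (q : ℕ) : ∃ ψ : L G q ⟶ L G (q + 1), ∀ (U : X.affineOpens) (z : Sec (L G q) U.1),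
    emb hG (q + 1) U (appL ψ U.1 z) = ExteriorAlgebra.ι Γ(X, U.1) (secAt G t U.1) * emb hG q U z := by
  obtain ⟨ψ, hψ⟩ := exists_hom_of_affine (M := L G q) (N := L G (q + 1))
    (fun U => (toL G (q + 1) U.1).comp ((mulPow (secAt G t U.1) q).comp
      (LinearEquiv.ofBijective (toL G q U.1) (toL_bijective G q hG U.2)).symm.toLinearMap))
    fun U V h s => by
      obtain ⟨z, rfl⟩ := (toL_bijective G q hG U.2).2 s
      show (L G (q + 1)).val.map (homOfLE h).op (toL G (q + 1) U.1 (mulPow (secAt G t U.1) q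
          ((LinearEquiv.ofBijective (toL G q U.1) (toL_bijective G q hG U.2)).symm (toL G q U.1 z)))) =
        toL G (q + 1) V.1 (mulPow (secAt G t V.1) q
          ((LinearEquiv.ofBijective (toL G q V.1) (toL_bijective G q hG V.2)).symm
            ((L G q).val.map (homOfLE h).op (toL G q U.1 z))))
      rw [map_toL G q h z, show (LinearEquiv.ofBijective (toL G q U.1) (toL_bijective G q hG U.2)).symm (toL G q U.1 z) = z
          from (LinearEquiv.ofBijective (toL G q U.1) (toL_bijective G q hG U.2)).symm_apply_apply z,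
        show (LinearEquiv.ofBijective (toL G q V.1) (toL_bijective G q hG V.2)).symm
            (toL G q V.1 (ExtPowSh.map q (resL G h) z)) = ExtPowSh.map q (resL G h) z
          from (LinearEquiv.ofBijective (toL G q V.1) (toL_bijective G q hG V.2)).symm_apply_apply _,
        map_toL, map_mulPow, resL_secAt]
  refine ⟨ψ, fun U z => ?_⟩
  exact (congrArg (emb hG (q + 1) U) (hψ U z)).trans ((emb_toL hG (q + 1) U _).trans rfl)

/-- The wedge with a global section, between given degrees. -/
def wedgeTo (t : Sec G ⊤) (q q' : ℕ) : L G q ⟶ L G q' :=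
  if h : q + 1 = q' then (exists_wedge hG t q).choose ≫ eqToHom (by rw [h]) else 0

theorem emb_wedgeTo (t : Sec G ⊤) (q q' : ℕ) (U : X.affineOpens) (z : Sec (L G q) U.1) :
    emb hG q' U (appL (wedgeTo hG t q q') U.1 z) =
      if q + 1 = q' then ExteriorAlgebra.ι Γ(X, U.1) (secAt G t U.1) * emb hG q U z else 0 := by
  split_ifs with h
  · subst h
    rw [wedgeTo, dif_pos rfl, eqToHom_refl, Category.comp_id]
    exact (exists_wedge hG t q).choose_spec U z
  · rw [wedgeTo, dif_neg h, appL_zero, map_zero]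

/-- Exponents of total degree at most `k`. -/
def mons (r k : ℕ) : Finset (Fin r → ℕ) :=
  (Fintype.piFinset fun _ => Finset.range (k + 1)).filter fun m => ∑ i, m i ≤ k

theorem mem_mons {r k : ℕ} {m : Fin r → ℕ} : m ∈ mons r k ↔ ∑ i, m i ≤ k := by
  rw [mons, Finset.mem_filter, and_iff_right_iff_imp, Fintype.mem_piFinset]
  intro h i
  rw [Finset.mem_range]
  have := Finset.single_le_sum (f := m) (fun j _ => Nat.zero_le _) (Finset.mem_univ i)
  omega

theorem sum_add_e1 {r : ℕ} (c : Fin r → ℕ) (i : Fin r) : ∑ l, (c + e1 i) l = ∑ l, c l + 1 := by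
  simp [e1, Finset.sum_add_distrib, Finset.sum_pi_single']

variable {n₀ r Q : ℕ} (k : ℕ) (t : Fin n₀ → Sec G ⊤) (A : Fin n₀ → Fin r → Matrix (Fin Q) (Fin Q) ℤ)

/-- The differential. -/
def kD (a c : (Fin r → ℕ) × Fin Q) : L G (k - ∑ i, a.1 i) ⟶ L G (k - ∑ i, c.1 i) :=
  ∑ i : Fin r, if a.1 = c.1 + e1 i then
    ∑ l, A l i c.2 a.2 • wedgeTo hG (t l) (k - ∑ i, a.1 i) (k - ∑ i, c.1 i) else 0

theorem emb_kD {a c : (Fin r → ℕ) × Fin Q} (ha : ∑ i, a.1 i ≤ k) (U : X.affineOpens)
    (z : Sec (L G (k - ∑ i, a.1 i)) U.1) :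
    emb hG (k - ∑ i, c.1 i) U (appL (kD hG k t A a c) U.1 z) = ∑ i : Fin r, if a.1 = c.1 + e1 i then
      ∑ l, A l i c.2 a.2 • (ExteriorAlgebra.ι Γ(X, U.1) (secAt G (t l) U.1) * emb hG (k - ∑ i, a.1 i) U z) else 0 := by
  rw [kD, appL_sum, map_sum]
  refine Finset.sum_congr rfl fun i _ => ?_
  split_ifs with h
  · rw [appL_sum, map_sum]
    refine Finset.sum_congr rfl fun l _ => ?_
    rw [appL_zsmul, map_zsmul, emb_wedgeTo, if_pos]
    have := sum_add_e1 c.1 i
    rw [← h] at this
    omega
  · rw [appL_zero, map_zero]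

/-- The complex. -/
def kPer (hGf : FlatMod.IsFinLocFree G) (hA : ∀ l l' i i', A l i * A l' i' = A l' i' * A l i) : Per X where
  I := ULift.{u} (↥(mons r k) × Fin Q)
  par a := decide (Odd (∑ i, a.down.1.1 i))
  O a := L G (k - ∑ i, a.down.1.1 i)
  flf _ := ExtPowSh.isFinLocFree hGf
  d a c := kD hG k t A (a.down.1.1, a.down.2) (c.down.1.1, c.down.2)
  d_odd a c h := by
    refine Finset.sum_eq_zero fun i _ => if_neg fun he => ?_
    have := sum_add_e1 c.down.1.1 i
    simp only at he
    rw [← he] at this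
    rw [decide_eq_decide, this, Nat.odd_add_one] at h
    tauto
  sq a c := by
    classical
    refine hom_eq_zero_of_isBasis _ X.isBasis_affineOpens fun U hU z => ?_
    refine emb_injective hG _ ⟨U, hU⟩ (Eq.trans ?_ (map_zero _).symm)
    rw [appL_sum, map_sum]
    obtain ⟨⟨⟨ma, hma⟩, pa⟩⟩ := a
    obtain ⟨⟨⟨mc, hmc⟩, pc⟩⟩ := c
    dsimp only
    set y := emb hG (k - ∑ i, ma i) ⟨U, hU⟩ z
    let v : Fin n₀ → ExteriorAlgebra Γ(X, U) (Sec G U) := fun l => ExteriorAlgebra.ι Γ(X, U) (secAt G (t l) U)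
    refine Eq.trans (Fintype.sum_equiv Equiv.ulift _ (fun b : ↥(mons r k) × Fin Q => ∑ i : Fin r,
      if b.1.1 = mc + e1 i then ∑ l, A l i pc b.2 • (v l * ∑ j : Fin r,
        if ma = b.1.1 + e1 j then ∑ l', A l' j b.2 pa • (v l' * y) else 0) else 0) fun b => ?_) ?_
    · refine (congrArg (emb hG _ ⟨U, hU⟩) (appL_comp _ _ U z)).trans
        ((emb_kD hG k t A (a := (b.down.1.1, b.down.2)) (c := (mc, pc)) (mem_mons.1 b.down.1.2) ⟨U, hU⟩ _).trans
          (Finset.sum_congr rfl fun i _ => if_congr Iff.rfl (Finset.sum_congr rfl fun l _ =>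
            congrArg (fun w => A l i pc b.down.2 • (v l * w))
              (emb_kD hG k t A (a := (ma, pa)) (c := (b.down.1.1, b.down.2)) (mem_mons.1 hma) ⟨U, hU⟩ z)) rfl))
    · let F : (Fin r × Fin r) × (Fin n₀ × Fin n₀) → ExteriorAlgebra Γ(X, U) (Sec G U) := fun x =>
        if ma = mc + e1 x.1.1 + e1 x.1.2 then (A x.2.1 x.1.1 * A x.2.2 x.1.2) pc pa • (v x.2.1 * (v x.2.2 * y)) else 0
      have key : ∀ i j : Fin r, (∑ b : ↥(mons r k) × Fin Q, if b.1.1 = mc + e1 i then
          ∑ l, A l i pc b.2 • (v l * if ma = b.1.1 + e1 j then ∑ l', A l' j b.2 pa • (v l' * y) else 0) else 0) =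
          ∑ x : Fin n₀ × Fin n₀, F ((i, j), x) := by
        intro i j
        simp only [F]
        by_cases hij : ma = mc + e1 i + e1 j
        · have hmem : mc + e1 i ∈ mons r k := by
            have h1 := sum_add_e1 (mc + e1 i) j
            rw [← hij] at h1
            exact mem_mons.2 (by have := mem_mons.1 hma; omega)
          rw [Fintype.sum_prod_type, Finset.sum_eq_single (⟨mc + e1 i, hmem⟩ : ↥(mons r k))
            (fun b _ hb => Finset.sum_eq_zero fun p _ => if_neg fun h => hb (Subtype.ext h))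
            (fun h => absurd (Finset.mem_univ _) h)]
          simp only [if_pos hij, if_true, Matrix.mul_apply, Finset.mul_sum, mul_smul_comm, Finset.smul_sum, smul_smul,
            Finset.sum_smul]
          rw [Fintype.sum_prod_type, Finset.sum_comm]
          refine Finset.sum_congr rfl fun l _ => ?_
          rw [Finset.sum_comm]
        · simp only [if_neg hij, Finset.sum_const_zero]
          refine Finset.sum_eq_zero fun b _ => ?_
          split_ifs with h1 h2
          · exact absurd (h1 ▸ h2) hij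
          · simp
          · rfl
      have expand : ∀ b : ↥(mons r k) × Fin Q, (∑ i : Fin r,
          if b.1.1 = mc + e1 i then ∑ l, A l i pc b.2 • (v l * ∑ j : Fin r,
            if ma = b.1.1 + e1 j then ∑ l', A l' j b.2 pa • (v l' * y) else 0) else 0) =
          ∑ i : Fin r, ∑ j : Fin r, if b.1.1 = mc + e1 i then
            ∑ l, A l i pc b.2 • (v l * if ma = b.1.1 + e1 j then ∑ l', A l' j b.2 pa • (v l' * y) else 0) else 0 := by
        intro b
        refine Finset.sum_congr rfl fun i _ => ?_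
        split_ifs with h
        · rw [Finset.sum_comm]
          refine Finset.sum_congr rfl fun l _ => ?_
          rw [Finset.mul_sum, Finset.smul_sum]
        · simp
      simp only [expand]
      rw [Finset.sum_comm]
      refine Eq.trans (Finset.sum_congr rfl fun i _ => Finset.sum_comm.trans (Finset.sum_congr rfl fun j _ => key i j)) ?_
      rw [← Fintype.sum_prod_type', ← Fintype.sum_prod_type']
      refine Finset.sum_involution (fun x _ => ((x.1.2, x.1.1), (x.2.2, x.2.1))) (fun x _ => ?_) (fun x _ hx heq => ?_)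
        (fun _ _ => Finset.mem_univ _) (fun _ _ => rfl)
      · show F x + F _ = 0
        simp only [F]
        rw [show mc + e1 x.1.2 + e1 x.1.1 = mc + e1 x.1.1 + e1 x.1.2 from add_right_comm _ _ _]
        split_ifs
        · rw [hA x.2.2 x.2.1, ← smul_add, ← mul_assoc, ← mul_assoc, ← add_mul,
            ExteriorAlgebra.ι_add_mul_swap, zero_mul, smul_zero]
        · rw [add_zero]
      · refine hx ?_
        have hl : x.2.2 = x.2.1 := congrArg (fun q => q.2.1) heq
        show F x = 0
        simp only [F, hl]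
        rw [← mul_assoc, ExteriorAlgebra.ι_sq_zero, zero_mul, smul_zero]
        exact ite_self _

end Groth.Agent.KDim
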